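import Groth.Agent.Lib.BMCoh.Core

/-!
Classes in the colimit groups represented on opens and on pieces.
-/

set_option autoImplicit false

universe u

open AlgebraicGeometry CategoryTheory CategoryTheory.Limits Opposite TopologicalSpace Set

namespace Groth.Agent.BMLib

open BMCoh

variable {V : ObjectProperty Scheme.{u}} [IsConstructible V] {R : Type u} [CommRing R] {A : Coefs R}
  (T : PreTheory V R A) {X : Obj V} (M : A.Cat)

attribute [local instance] isFiltered_fj isFiltered_pt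

/-- The class in the group of `F_j` of a class on an open. -/
noncomputable def cls {j : ℕ} {Y : X.scheme.Opens} (hY : ContainsFj X j Y) (i n : ℤ) :
    T.gp (X.res Y) M i n ⟶ T.fjGp X j M i n :=
  (T.fjι X j i n (fjIdx X Y hY)).app M

/-- The class in the group of a point of a class on a piece of its closure. -/
noncomputable def ptCls {x : X.scheme} {Y : X.scheme.Opens} (hx : x ∈ Y) (i n : ℤ) :
    T.gp (pc X (pt X x) Y) M i n ⟶ T.ptGp X x M i n :=
  (T.ptι X x i n (pcIdx X hx)).app M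

variable {j : ℕ} {Y Y' : X.scheme.Opens}

theorem cls_pull (hY : ContainsFj X j Y) (hY' : ContainsFj X j Y') (h : Y' ≤ Y)
    (hd : WeilCoh.dim (Y' : Scheme.{u}) = WeilCoh.dim (Y : Scheme.{u})) (i n : ℤ)
    (a : T.gp (X.res Y) M i n) :
    (cls T M hY' i n).hom ((T.pull (X.resLE h hd) M i n).hom a) = (cls T M hY i n).hom a :=
  ι_pull T X M i n (P := ContainsFj X j) (U := fjIdx X Y hY) (U' := fjIdx X Y' hY') h a

theorem exists_cls (j : ℕ) (i n : ℤ) (a : T.fjGp X j M i n) :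
    ∃ (Y : X.scheme.Opens) (hY : ContainsFj X j Y) (b : T.gp (X.res Y) M i n),
      (cls T M hY i n).hom b = a := by
  obtain ⟨U, b, hb⟩ := exists_rep T X M i n (P := ContainsFj X j) a
  exact ⟨U.1, U.2.1, b, hb⟩

theorem exists_pull_eq_zero (hY : ContainsFj X j Y) (i n : ℤ) (b : T.gp (X.res Y) M i n)
    (hb : (cls T M hY i n).hom b = 0) :
    ∃ (Y' : X.scheme.Opens) (h : Y' ≤ Y) (hY' : ContainsFj X j Y'),
      (T.pull (X.resLE h ((dim_open_of_containsFj X hY').trans (dim_open_of_containsFj X hY).symm)) M i n).hom b = 0 := by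
  obtain ⟨U', h, hU'⟩ := exists_le_of_rep_zero T X M i n (P := ContainsFj X j) (U := fjIdx X Y hY) hb
  exact ⟨U'.1, h, U'.2.1, hU'⟩

theorem fjRes_cls {m : ℕ} (h : j ≤ m) (hY : ContainsFj X m Y) (i n : ℤ) (b : T.gp (X.res Y) M i n) :
    ((T.fjRes X h i n).app M).hom ((cls T M hY i n).hom b) =
      (cls T M (containsFj_mono X h Y hY) i n).hom b :=
  congrArg (fun f : _ ⟶ _ => (f.app M).hom b)
    (colimit.ι_pre ((idxDiag X (ContainsFj X j)).op ⋙ T.H i n) (idxIncl X (containsFj_mono X h)).op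
      (op (fjIdx X Y hY)))

theorem ptCls_pull {c : ℕ} {x : X.scheme} (h : IsPc X c (pt X x) Y) (h' : IsPc X c (pt X x) Y')
    (hx : x ∈ Y) (hx' : x ∈ Y') (hY : Y' ≤ Y) (i n : ℤ) (b : T.gp (pc X (pt X x) Y) M i n) :
    (ptCls T M hx' i n).hom ((T.pull (pcHom h' h hY) M i n).hom b) = (ptCls T M hx i n).hom b :=
  ι_pull T (X.ptSub x) M i n (P := fun U => (U : Set (X.ptSub x).scheme).Nonempty)
    (U := pcIdx X hx) (U' := pcIdx X hx') ((subι X (pt X x)).preimage_mono hY) b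

theorem exists_open_of_ptIdx {c : ℕ} (x : X.cdPt c) (W : ptIdx X x.1) :
    ∃ (Y : X.scheme.Opens) (hY : ContainsFj X c Y), W = pcIdx X (hY x.1 x.2.le) := by
  have := irreducibleSpace_sub_pt X x.1
  have hcl : IsClosed (subι X (pt X x.1) '' (W.1 : Set (sub X (pt X x.1)).scheme)ᶜ) :=
    (subι X (pt X x.1)).isClosedEmbedding.isClosedMap _ W.1.isOpen.isClosed_compl
  refine ⟨⟨_, hcl.isOpen_compl⟩, fun y hy hy' => ?_, ?_⟩
  · obtain ⟨z, hz, rfl⟩ := hy'
    have hsp : x.1 ⤳ subι X (pt X x.1) z :=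
      specializes_iff_mem_closure.2 ((range_subι X (pt X x.1)).subset ⟨z, rfl⟩)
    have he := specializes_eq_of_codim_le (finDim X) hsp (by rw [x.2]; exact hy)
    obtain ⟨w, hw⟩ := W.2.1
    refine hz (((subι X (pt X x.1)).isEmbedding.isInducing.specializes_iff.1 ?_).mem_open W.1.isOpen hw)
    rw [he]
    exact specializes_iff_mem_closure.2 ((range_subι X (pt X x.1)).subset ⟨w, rfl⟩)
  · apply Subtype.ext
    ext z
    change z ∈ W.1 ↔ ¬ subι X (pt X x.1) z ∈ subι X (pt X x.1) '' (W.1 : Set (sub X (pt X x.1)).scheme)ᶜ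
    rw [(subι X (pt X x.1)).isEmbedding.injective.mem_set_image]
    simp

theorem exists_ptCls {c : ℕ} (x : X.cdPt c) (i n : ℤ) (a : T.ptGp X x.1 M i n) :
    ∃ (Y : X.scheme.Opens) (hY : ContainsFj X c Y) (b : T.gp (pc X (pt X x.1) Y) M i n),
      (ptCls T M (hY x.1 x.2.le) i n).hom b = a := by
  obtain ⟨W, b, hb⟩ := exists_rep T (X.ptSub x.1) M i n
    (P := fun U => (U : Set (X.ptSub x.1).scheme).Nonempty) a
  obtain ⟨Y, hY, rfl⟩ := exists_open_of_ptIdx x W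
  exact ⟨Y, hY, b, hb⟩

theorem exists_pull_ptCls_eq_zero {c : ℕ} (x : X.cdPt c) (h : IsPc X c (pt X x.1) Y)
    (hY : ContainsFj X c Y) (i n : ℤ) (b : T.gp (pc X (pt X x.1) Y) M i n)
    (hb : (ptCls T M (hY x.1 x.2.le) i n).hom b = 0) :
    ∃ (Y' : X.scheme.Opens) (hle : Y' ≤ Y) (_ : ContainsFj X c Y') (h' : IsPc X c (pt X x.1) Y'),
      (T.pull (pcHom h' h hle) M i n).hom b = 0 := by
  obtain ⟨W', hW, hW'⟩ := exists_le_of_rep_zero T (X.ptSub x.1) M i n
    (P := fun U => (U : Set (X.ptSub x.1).scheme).Nonempty) (U := pcIdx X (hY x.1 x.2.le)) hb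
  obtain ⟨Y₁, hY₁, rfl⟩ := exists_open_of_ptIdx x W'
  let Y' := Y₁ ⊓ Y
  have hY' : ContainsFj X c Y' := fun y hy => ⟨hY₁ y hy, hY y hy⟩
  have h' : IsPc X c (pt X x.1) Y' := ⟨dim_open_of_containsFj X hY', by
    rw [← h.dimPc, dim_pc_pt X (hY' x.1 x.2.le), dim_pc_pt X (hY x.1 x.2.le)]⟩
  have h₁ : IsPc X c (pt X x.1) Y₁ := ⟨dim_open_of_containsFj X hY₁, by
    rw [← h.dimPc, dim_pc_pt X (hY₁ x.1 x.2.le), dim_pc_pt X (hY x.1 x.2.le)]⟩
  refine ⟨Y', inf_le_right, hY', h', ?_⟩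
  have e : pcHom h' h inf_le_right =
      pcHom h' h₁ inf_le_left ≫ ((X.ptSub x.1).resLE hW ((pcIdx X (hY₁ x.1 x.2.le)).2.2.trans
        (pcIdx X (hY x.1 x.2.le)).2.2.symm) : pc X (pt X x.1) Y₁ ⟶ pc X (pt X x.1) Y) :=
    Hom.ext ((sub X (pt X x.1)).scheme.homOfLE_homOfLE
      ((subι X (pt X x.1)).preimage_mono (inf_le_left : Y' ≤ Y₁))
      (hW : subι X (pt X x.1) ⁻¹ᵁ Y₁ ≤ subι X (pt X x.1) ⁻¹ᵁ Y)).symm
  have := pull_comp T M i n ((X.ptSub x.1).resLE hW ((pcIdx X (hY₁ x.1 x.2.le)).2.2.trans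
        (pcIdx X (hY x.1 x.2.le)).2.2.symm) : pc X (pt X x.1) Y₁ ⟶ pc X (pt X x.1) Y)
      (pcHom h' h₁ inf_le_left) b
  rw [← e] at this
  rw [← this]
  exact (congrArg _ hW').trans (map_zero _)

theorem exists_good {c : ℕ} {Y₀ : X.scheme.Opens} (hY₀ : ContainsFj X c Y₀) (S : Finset (X.cdPt c))
    {C : Set X.scheme} (hC : IsClosed C) (hCc : ∀ y ∈ C, c < WeilCoh.codim X.scheme y) :
    ∃ Y : X.scheme.Opens, Y ≤ Y₀ ∧ ContainsFj X c Y ∧ Good S Y ∧ Disjoint (Y : Set X.scheme) C := by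
  classical
  let D : Set X.scheme := ⋃ s ∈ S, ⋃ t ∈ S.erase s, closure {s.1} ∩ closure {t.1}
  have hD : IsClosed D := S.finite_toSet.isClosed_biUnion fun s _ =>
    (S.erase s).finite_toSet.isClosed_biUnion fun t _ => isClosed_closure.inter isClosed_closure
  let Y : X.scheme.Opens := Y₀ ⊓ ⟨(C ∪ D)ᶜ, (hC.union hD).isOpen_compl⟩
  have hY : ContainsFj X c Y := by
    refine fun y hy => ⟨hY₀ y hy, ?_⟩
    rintro (h | h)
    · exact (hCc y h).not_ge hy
    · simp only [D, mem_iUnion, mem_inter_iff] at h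
      obtain ⟨s, hs, t, ht, hsy, hty⟩ := h
      have h₁ := specializes_eq_of_codim_le (finDim X) (specializes_iff_mem_closure.2 hsy) (by rw [s.2]; exact hy)
      have h₂ := specializes_eq_of_codim_le (finDim X) (specializes_iff_mem_closure.2 hty) (by rw [t.2]; exact hy)
      exact (Finset.mem_erase.1 ht).1 (Subtype.ext (h₂.symm.trans h₁))
  refine ⟨Y, inf_le_left, hY, ⟨dim_open_of_containsFj X hY, fun s _ => hY _ s.2.le, ?_⟩, ?_⟩
  · intro s hs t ht y hy hsy hty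
    by_contra hne
    refine hy.2 (Or.inr ?_)
    simp only [D, mem_iUnion, mem_inter_iff]
    exact ⟨s, hs, t, Finset.mem_erase.2 ⟨Ne.symm hne, ht⟩, specializes_iff_mem_closure.1 hsy,
      specializes_iff_mem_closure.1 hty⟩
  · exact disjoint_left.2 fun y hy hyC => hy.2 (Or.inl hyC)

theorem exists_cover {U Y₀ : X.scheme.Opens} (hU : ContainsFj X j U) (hY₀ : ContainsFj X (j + 1) Y₀) :
    ∃ (S : Finset (X.cdPt (j + 1))) (Y : X.scheme.Opens), Y ≤ Y₀ ∧ ContainsFj X (j + 1) Y ∧ Good S Y ∧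
      ((U ⊓ Y : X.scheme.Opens) : Set X.scheme) = (Y : Set X.scheme) \ cl S := by
  classical
  have hUc : ∀ y ∉ U, j + 1 ≤ WeilCoh.codim X.scheme y := fun y hy =>
    not_lt.1 fun h => hy (hU y (Nat.lt_succ_iff.1 h))
  have hfin : {y : X.scheme | y ∈ (U : Set X.scheme)ᶜ ∧ WeilCoh.codim X.scheme y = j + 1}.Finite :=
    finite_minimal_codim (finDim X) U.isOpen.isClosed_compl (j + 1) hUc
  let P : Set (X.cdPt (j + 1)) := {s | s.1 ∉ U}
  have hP : P.Finite := (hfin.preimage (f := fun s : X.cdPt (j + 1) => s.1)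
    Subtype.val_injective.injOn).subset fun s hs => ⟨hs, s.2⟩
  let S := hP.toFinset
  obtain ⟨Tc, hTfin, hTcl, hTirr, hUT⟩ :=
    NoetherianSpace.exists_finite_set_isClosed_irreducible U.isOpen.isClosed_compl
  let Bad : Set (Set X.scheme) := {t ∈ Tc | ∀ s ∈ S, ¬ t ⊆ closure {s.1}}
  have hBad : Bad.Finite := hTfin.subset fun t ht => ht.1
  have hC : IsClosed (⋃₀ Bad) := by
    rw [sUnion_eq_biUnion]; exact hBad.isClosed_biUnion fun t ht => hTcl t ht.1
  obtain ⟨Y, hle, hY, hgood, hdis⟩ := exists_good hY₀ S hC fun y hy => by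
    obtain ⟨t, ⟨ht, hts⟩, hyt⟩ := hy
    have hyU : y ∉ U := by
      have : y ∈ (U : Set X.scheme)ᶜ := by rw [hUT]; exact ⟨t, ht, hyt⟩
      exact this
    refine lt_of_le_of_ne (hUc y hyU) fun he => ?_
    have hgp := (hTirr t ht).isGenericPoint_genericPoint_closure
    have hgU : (hTirr t ht).genericPoint ∉ U := by
      have : (hTirr t ht).genericPoint ∈ (U : Set X.scheme)ᶜ := by
        rw [hUT]; exact ⟨t, ht, (hTcl t ht).closure_eq.subset hgp.mem⟩
      exact this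
    have hgy := specializes_eq_of_codim_le (finDim X) (hgp.specializes (subset_closure hyt))
      (he.symm.le.trans (hUc _ hgU))
    refine hts ⟨y, he.symm⟩ (hP.mem_toFinset.2 hyU) ?_
    rw [← (hTcl t ht).closure_eq, ← hgp.def]
    exact (congrArg (fun z : X.scheme => closure ({z} : Set X.scheme)) hgy.symm).subset
  refine ⟨S, Y, hle, hY, hgood, Set.ext fun y => ?_⟩
  constructor
  · rintro ⟨hyU, hyY⟩
    refine ⟨hyY, fun hy => ?_⟩
    obtain ⟨s, hs, hsy⟩ := mem_cl.1 hy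
    exact hP.mem_toFinset.1 hs (hsy.mem_open U.isOpen hyU)
  · rintro ⟨hyY, hy⟩
    refine ⟨by_contra fun hyU => ?_, hyY⟩
    have : y ∈ (U : Set X.scheme)ᶜ := hyU
    rw [hUT] at this
    obtain ⟨t, ht, hyt⟩ := this
    by_cases hb : ∀ s ∈ S, ¬ t ⊆ closure {s.1}
    · exact disjoint_left.1 hdis hyY ⟨t, ⟨ht, hb⟩, hyt⟩
    · push_neg at hb
      obtain ⟨s, hs, hts⟩ := hb
      exact hy (mem_cl.2 ⟨s, hs, specializes_iff_mem_closure.2 (hts hyt)⟩)

end Groth.Agent.BMLib
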