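import Groth.Agent.Lib.BMCoh.Sequence
import Groth.Prelude.Def_BMCoh4

/-!
Uniqueness of push-forward and residue data.
-/

set_option autoImplicit false

universe u

open AlgebraicGeometry CategoryTheory CategoryTheory.Limits Opposite TopologicalSpace Set

namespace Groth.Agent.BMLib

open BMCoh

variable {V : ObjectProperty Scheme.{u}} [IsConstructible V] {R : Type u} [CommRing R] {A : Coefs R}
  {T : PreTheory V R A} {X Y : Obj V}

attribute [local instance] isFiltered_fj isFiltered_pt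

theorem subsingleton_pushData {c : ℕ} : Subsingleton (T.PushData X c) := by
  refine ⟨fun P P' => ?_⟩
  suffices h : P.cpt = P'.cpt by cases P; cases P'; cases h; rfl
  funext x M i n i' n' hi hn
  refine ModuleCat.hom_ext (LinearMap.ext fun a => ?_)
  obtain ⟨Y₀, hY₀, b, rfl⟩ := exists_ptCls T M x i n a
  have h₁ := pdim_le_dim (finDim X) x.1
  have h₂ : WeilCoh.dim X.scheme - WeilCoh.pdim X.scheme x.1 = c := x.2
  have h : IsPc X c (pt X x.1) Y₀ := ⟨dim_open_of_containsFj X hY₀, by
    rw [dim_pc_pt X (hY₀ x.1 x.2.le)]; omega⟩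
  rw [pushData_ptCls M P x h hY₀, pushData_ptCls M P' x h hY₀]

theorem subsingleton_resData {j : ℕ} : Subsingleton (T.ResData X j) := by
  refine ⟨fun Q Q' => ?_⟩
  suffices h : Q.cpt = Q'.cpt by cases Q; cases Q'; cases h; rfl
  funext x M i n i' n' hi hn
  refine ModuleCat.hom_ext (LinearMap.ext fun a => ?_)
  obtain ⟨S, Y, U, hY, hg, hU, hUj, b, rfl⟩ := exists_cls_diff M i n a
  by_cases hx : x ∈ S
  · rw [resData_cls M Q hg hx hU hUj, resData_cls M Q' hg hx hU hUj]
  · have hxU : x.1 ∈ U := hU.symm.subset ⟨hY x.1 x.2.le, fun h => hx (mem_of_mem_cl h)⟩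
    rw [resData_eq_zero M Q hUj x hxU, resData_eq_zero M Q' hUj x hxU]

theorem pdim_sub (K : Closeds X.scheme) (z : (sub X K).scheme) :
    WeilCoh.pdim (sub X K).scheme z = WeilCoh.pdim X.scheme (subι X K z) := by
  have he : subι X K '' closure {z} = closure {subι X K z} := by
    rw [← (subι X K).isClosedEmbedding.closure_image_eq, Set.image_singleton]
  change _ = WeilCoh.natDim (closure {subι X K z} : Set X.scheme)
  rw [← he, Set.image_eq_range, WeilCoh.pdim]
  exact (natDim_range ((subι X K).isEmbedding.comp Topology.IsEmbedding.subtypeVal)).symm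

/-- A proper morphism does not raise the dimension of closures of points. -/
theorem pdim_map_le (φ : Y.scheme ⟶ X.scheme) [IsProper φ] (y : Y.scheme) :
    WeilCoh.pdim X.scheme (φ y) ≤ WeilCoh.pdim Y.scheme y := by
  induction hk : WeilCoh.pdim Y.scheme y using Nat.strong_induction_on generalizing y with
  | _ k ih =>
    subst hk
    rcases Nat.eq_zero_or_pos (WeilCoh.pdim X.scheme (φ y)) with h0 | hpos
    · omega
    let K := pt X (φ y)
    have hdim : WeilCoh.dim (sub X K).scheme = WeilCoh.pdim X.scheme (φ y) := dim_sub X K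
    haveI : Nonempty (sub X K).scheme := by
      obtain ⟨z, -⟩ := (range_subι X K).symm.subset (show φ y ∈ (K : Set X.scheme) from subset_closure rfl)
      exact ⟨z⟩
    obtain ⟨z, hz⟩ := pdim_eq_zero_or_series (finDim (sub X K)) (k := WeilCoh.pdim X.scheme (φ y) - 1)
      (by omega)
    rw [pdim_sub] at hz
    have hzK : subι X K z ∈ closure {φ y} := (range_subι X K).subset ⟨z, rfl⟩
    obtain ⟨y', hy', hyz⟩ : subι X K z ∈ φ '' closure {y} := by
      refine closure_minimal ?_ (φ.isClosedMap _ isClosed_closure) hzK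
      exact singleton_subset_iff.2 ⟨y, subset_closure rfl, rfl⟩
    have hne : y' ≠ y := by
      rintro rfl
      rw [← hyz] at hz
      omega
    have hlt := pdim_lt_of_specializes (finDim Y) (specializes_iff_mem_closure.2 hy') hne
    have := ih _ hlt y' rfl
    rw [hyz, hz] at this
    omega

theorem subsingleton_ptPush (φ : Y.scheme ⟶ X.scheme) [IsProper φ] (y : Y.scheme) (x : X.scheme) :
    Subsingleton (T.PtPush φ y x) := by
  refine ⟨fun P P' => ?_⟩
  suffices h : P.cpt = P'.cpt by cases P; cases P'; cases h; rfl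
  funext M i n
  refine ModuleCat.hom_ext (LinearMap.ext fun a => ?_)
  obtain ⟨W, b, rfl⟩ := exists_rep T (Y.ptSub y) M i n
    (P := fun U => (U : Set (Y.ptSub y).scheme).Nonempty) a
  have hyx : φ y = x := P.maps_pt
  have hdim : WeilCoh.pdim X.scheme x = WeilCoh.pdim Y.scheme y := by
    have := P.codim_eq
    rw [relCodim, dim_ptSub, dim_ptSub] at this
    omega
  let C : Set X.scheme := φ '' (subι Y (pt Y y) '' (W.1 : Set (sub Y (pt Y y)).scheme)ᶜ)
  have hC : IsClosed C :=
    φ.isClosedMap _ ((subι Y (pt Y y)).isClosedEmbedding.isClosedMap _ W.1.isOpen.isClosed_compl)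
  have hxC : x ∉ C := by
    rintro ⟨-, ⟨z, hz, rfl⟩, hzx⟩
    have hsp : y ⤳ subι Y (pt Y y) z :=
      specializes_iff_mem_closure.2 ((range_subι Y (pt Y y)).subset ⟨z, rfl⟩)
    by_cases he : subι Y (pt Y y) z = y
    · obtain ⟨w, hw⟩ := W.2.1
      refine hz (((subι Y (pt Y y)).isEmbedding.isInducing.specializes_iff.1 ?_).mem_open W.1.isOpen hw)
      rw [he]
      exact specializes_iff_mem_closure.2 ((range_subι Y (pt Y y)).subset ⟨w, rfl⟩)
    · have := pdim_lt_of_specializes (finDim Y) hsp he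
      have := pdim_map_le φ (subι Y (pt Y y) z)
      rw [hzx] at this
      omega
  let O : X.scheme.Opens := ⟨Cᶜ, hC.isOpen_compl⟩
  have hxO : x ∈ O := hxC
  have hyO : y ∈ φ ⁻¹ᵁ O := by
    change φ y ∈ O
    rw [hyx]; exact hxO
  let W₁ : ptIdx Y y := pcIdx Y hyO
  have hle : W₁ ≤ W := fun z (hz : φ (subι Y (pt Y y) z) ∉ C) =>
    by_contra fun hzW => hz ⟨_, ⟨z, hzW, rfl⟩, rfl⟩
  have hsub : range (pcX Y (pt Y y) (φ ⁻¹ᵁ O) ≫ φ) ⊆ (pt X x : Set X.scheme) ∩ O := by
    rw [Scheme.Hom.comp_base, TopCat.coe_comp, Set.range_comp, range_pcX]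
    rintro _ ⟨z, ⟨hz, hzO⟩, rfl⟩
    refine ⟨specializes_iff_mem_closure.1 ?_, hzO⟩
    rw [← hyx]
    exact (specializes_iff_mem_closure.2 hz).map φ.continuous
  obtain ⟨f, hf⟩ := exists_pcLift X (pcX Y (pt Y y) (φ ⁻¹ᵁ O) ≫ φ) (pt X x) O hsub
  have hfp : IsProper f := by
    have hcomp : f ≫ pcι X (pt X x) O = pcι Y (pt Y y) (φ ⁻¹ᵁ O) ≫ (φ ∣_ O) := by
      rw [← cancel_mono O.ι, Category.assoc, pcι_ι, hf]
      refine Eq.trans ?_ (Category.assoc _ _ _).symm
      refine Eq.trans ?_ (congrArg (pcι Y (pt Y y) (φ ⁻¹ᵁ O) ≫ ·) (morphismRestrict_ι φ O)).symm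
      exact (pcι_ι_assoc Y (pt Y y) (φ ⁻¹ᵁ O) φ).symm
    haveI : IsProper (φ ∣_ O) :=
      MorphismProperty.of_isPullback (isPullback_morphismRestrict φ O).flip inferInstance
    haveI := isProper_pcι (pt Y y) (φ ⁻¹ᵁ O)
    haveI : IsProper (f ≫ pcι X (pt X x) O) := hcomp ▸ inferInstance
    exact IsProper.of_comp f (pcι X (pt X x) O)
  have hc : relCodim (pc Y (pt Y y) (φ ⁻¹ᵁ O)).scheme (pc X (pt X x) O).scheme = 0 := by
    rw [relCodim, dim_pc_pt X hxO, dim_pc_pt Y hyO, hdim, sub_self]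
  have key : ∀ P : T.PtPush φ y x, (P.cpt M i n).hom
      (((T.ptι Y y i n W).app M).hom b) = ((T.ptι X x i n (pcIdx X hxO)).app M).hom
        ((T.push f M i n i n (by rw [hc]; omega) (by rw [hc]; omega)).hom
          ((T.pull ((Y.ptSub y).resLE hle (W₁.2.2.trans W.2.2.symm)) M i n).hom b)) := by
    intro P
    have hι := ι_pull T (Y.ptSub y) M i n
      (P := fun U => (U : Set (Y.ptSub y).scheme).Nonempty) (U := W) (U' := W₁) hle b
    refine (congrArg (fun t => (P.cpt M i n).hom t) hι.symm).trans ?_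
    exact congrArg (fun g => g.hom ((T.pull ((Y.ptSub y).resLE hle (W₁.2.2.trans W.2.2.symm)) M i n).hom b))
      (P.cpt_spec M i n W₁ (pcIdx X hxO) f (hf.trans (Category.assoc _ _ _)) (by
        have : relCodim ((Y.ptSub y).res W₁.1).scheme ((X.ptSub x).res (pcIdx X hxO).1).scheme = 0 := hc
        omega) (by
        have : relCodim ((Y.ptSub y).res W₁.1).scheme ((X.ptSub x).res (pcIdx X hxO).1).scheme = 0 := hc
        omega))
  exact (key P).trans (key P').symm

end Groth.Agent.BMLib
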