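import Groth.Agent.Lib.BMCoh.Vanishing
import Groth.Agent.Lib.BMCoh.Unique

/-!
Bijectivity of restriction read through closed subschemes of one codimension.
-/

set_option autoImplicit false

universe u

open AlgebraicGeometry CategoryTheory CategoryTheory.Limits Opposite TopologicalSpace Set

namespace Groth.Agent.BMLib

open BMCoh

variable {V : ObjectProperty Scheme.{u}} [IsConstructible V] {R : Type u} [CommRing R] {A : Coefs R}
  {T : PreTheory V R A} {X : Obj V} (M : A.Cat)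

attribute [local instance] isFiltered_fj isFiltered_pt

theorem bijective_fjRes_of_dim_le {k m : ℕ} (h : k ≤ m) (hk : WeilCoh.dim X.scheme ≤ k) (i n : ℤ) :
    Function.Bijective ((T.fjRes X h i n).app M).hom := by
  have h₁ := bijective_toFj_of_dim_le (T := T) (X := X) M hk i n
  have h₂ := bijective_toFj_of_dim_le (T := T) (X := X) M (hk.trans h) i n
  have he : ((T.fjRes X h i n).app M).hom ∘ ((T.toFj X m i n).app M).hom = ((T.toFj X k i n).app M).hom :=
    funext fun a => fjRes_toFj M h i n a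
  refine (Function.Bijective.of_comp_iff _ h₂).1 ?_
  rw [he]; exact h₁

theorem exists_closed {j : ℕ} (hj : j + 1 ≤ WeilCoh.dim X.scheme) {U : X.scheme.Opens}
    (hU : ContainsFj X j U) :
    ∃ (U₁ : X.scheme.Opens) (p : X.cdPt (j + 1)) (K : Closeds X.scheme), U₁ ≤ U ∧ ContainsFj X j U₁ ∧
      (K : Set X.scheme) = (U₁ : Set X.scheme)ᶜ ∧ p.1 ∈ (K : Set X.scheme) ∧
      WeilCoh.natDim (K : Set X.scheme) + (j + 1) = WeilCoh.dim X.scheme := by
  haveI : Nonempty X.scheme := by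
    by_contra h
    haveI := not_nonempty_iff.1 h
    have : IsEmpty (IrreducibleCloseds X.scheme) := ⟨fun Z => IsEmpty.false Z.isIrreducible.nonempty.choose⟩
    have h0 : topologicalKrullDim X.scheme = ⊥ := Order.krullDim_eq_bot
    unfold WeilCoh.dim WeilCoh.natDim at hj
    rw [h0] at hj
    simp at hj
  obtain ⟨p, hp⟩ := exists_codim (finDim X) hj
  let U₁ : X.scheme.Opens := U ⊓ ⟨(closure {p})ᶜ, isClosed_closure.isOpen_compl⟩
  have hU₁ : ContainsFj X j U₁ := fun y hy => ⟨hU y hy, fun hy' => by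
    have := specializes_eq_of_codim_le (finDim X) (specializes_iff_mem_closure.2 hy') (by omega)
    rw [this, hp] at hy
    omega⟩
  let K : Closeds X.scheme := ⟨(U₁ : Set X.scheme)ᶜ, U₁.isOpen.isClosed_compl⟩
  have hpK : p ∈ (K : Set X.scheme) := fun h => h.2 (subset_closure rfl)
  refine ⟨U₁, ⟨p, hp⟩, K, inf_le_left, hU₁, rfl, hpK, ?_⟩
  have hp' : WeilCoh.dim X.scheme - WeilCoh.pdim X.scheme p = j + 1 := hp
  have h₁ : WeilCoh.pdim X.scheme p ≤ WeilCoh.natDim (K : Set X.scheme) :=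
    natDim_subtype_mono (finDim X) (closure_minimal (singleton_subset_iff.2 hpK) K.isClosed)
  obtain ⟨Tc, hTfin, hTcl, hTirr, hT⟩ := NoetherianSpace.exists_finite_set_isClosed_irreducible K.isClosed
  have : Finite Tc := hTfin.to_subtype
  have : Nonempty Tc := by
    rw [hT] at hpK
    obtain ⟨t, ht, -⟩ := hpK
    exact ⟨⟨t, ht⟩⟩
  have h₂ : WeilCoh.natDim (K : Set X.scheme) ≤ WeilCoh.dim X.scheme - (j + 1) := by
    rw [hT, sUnion_eq_iUnion]
    refine natDim_biUnion_le (finDim X) (fun t : Tc => (t.1 : Set X.scheme)) (fun t => hTcl t.1 t.2) _ fun t => ?_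
    have hg := (hTirr t.1 t.2).isGenericPoint_genericPoint_closure
    have hgK : (hTirr t.1 t.2).genericPoint ∈ (U₁ : Set X.scheme)ᶜ := by
      change _ ∈ (K : Set X.scheme)
      rw [hT]
      exact ⟨t.1, t.2, (hTcl t.1 t.2).closure_eq.subset hg.mem⟩
    have hc : j + 1 ≤ WeilCoh.codim X.scheme (hTirr t.1 t.2).genericPoint :=
      not_lt.1 fun h => hgK (hU₁ _ (Nat.lt_succ_iff.1 h))
    rw [show (t.1 : Set X.scheme) = closure {(hTirr t.1 t.2).genericPoint} from
      ((hTcl t.1 t.2).closure_eq.symm.trans hg.def.symm)]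
    change WeilCoh.pdim X.scheme _ ≤ _
    unfold WeilCoh.codim at hc
    omega
  have := pdim_le_dim (finDim X) p
  omega

theorem isPc_of_mem {j : ℕ} {K : Closeds X.scheme} {p : X.cdPt (j + 1)} (hp : p.1 ∈ (K : Set X.scheme))
    (hK : WeilCoh.natDim (K : Set X.scheme) + (j + 1) = WeilCoh.dim X.scheme) {Y : X.scheme.Opens}
    (hd : WeilCoh.dim (Y : Scheme.{u}) = WeilCoh.dim X.scheme) (hpY : p.1 ∈ Y) : IsPc X (j + 1) K Y := by
  refine ⟨hd, ?_⟩
  have h₁ := pdim_le_dim (finDim X) p.1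
  have h₂ : WeilCoh.dim X.scheme - WeilCoh.pdim X.scheme p.1 = j + 1 := p.2
  have h₃ : WeilCoh.pdim X.scheme p.1 ≤ WeilCoh.dim (pc X K Y).scheme := by
    rw [← dim_pc_pt X hpY, dim_pc, dim_pc]
    exact natDim_subtype_mono (finDim X)
      (inter_subset_inter_left _ (closure_minimal (singleton_subset_iff.2 hp) K.isClosed))
  have h₄ : WeilCoh.dim (pc X K Y).scheme ≤ WeilCoh.natDim (K : Set X.scheme) := by
    rw [dim_pc]
    exact natDim_subtype_mono (finDim X) inter_subset_left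
  omega

theorem exists_shrink_of_isZero {c m : ℕ} {K : Closeds X.scheme} {Y : X.scheme.Opens}
    (h : IsPc X c K Y) (hY : ContainsFj X (c + m) Y)
    (hK : WeilCoh.natDim (K : Set X.scheme) + c = WeilCoh.dim X.scheme) {p : X.scheme}
    (hpK : p ∈ (K : Set X.scheme)) (hp : WeilCoh.codim X.scheme p = c) (i n : ℤ)
    (hz : IsZero (T.fjGp (sub X K) m M i n)) (z : T.gp (pc X K Y) M i n) :
    ∃ (Y' : X.scheme.Opens) (hle : Y' ≤ Y) (_ : ContainsFj X (c + m) Y') (h' : IsPc X c K Y'),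
      (T.pull (pcHom h' h hle) M i n).hom z = 0 := by
  have hdimZ : WeilCoh.dim (sub X K).scheme + c = WeilCoh.dim X.scheme := by rw [dim_sub]; exact hK
  have hcod : ∀ y, WeilCoh.codim X.scheme (subι X K y) = WeilCoh.codim (sub X K).scheme y + c := fun y => by
    have := pdim_le_dim (finDim (sub X K)) y
    unfold WeilCoh.codim
    rw [← pdim_sub]
    omega
  have hYZ : ContainsFj (sub X K) m (subι X K ⁻¹ᵁ Y) := fun y hy => hY _ (by rw [hcod]; omega)
  obtain ⟨Y₁, hle₁, hY₁, hz₁⟩ := exists_pull_eq_zero T M hYZ i n z (eq_zero_of_isZero hz _)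
  have hC : IsClosed (subι X K '' (Y₁ : Set (sub X K).scheme)ᶜ) :=
    (subι X K).isClosedEmbedding.isClosedMap _ Y₁.isOpen.isClosed_compl
  let Y' : X.scheme.Opens := Y ⊓ ⟨_, hC.isOpen_compl⟩
  have hY' : ContainsFj X (c + m) Y' := fun y hy => ⟨hY y hy, by
    rintro ⟨w, hw, rfl⟩
    rw [hcod] at hy
    exact hw (hY₁ w (by omega))⟩
  have hpc : IsPc X c K Y' := ⟨dim_open_of_containsFj X hY', by
    have h₁ : WeilCoh.pdim X.scheme p ≤ WeilCoh.dim (pc X K Y').scheme := by
      rw [← dim_pc_pt X (hY' p (by omega)), dim_pc, dim_pc]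
      exact natDim_subtype_mono (finDim X)
        (inter_subset_inter_left _ (closure_minimal (singleton_subset_iff.2 hpK) K.isClosed))
    have h₂ : WeilCoh.dim (pc X K Y').scheme ≤ WeilCoh.natDim (K : Set X.scheme) := by
      rw [dim_pc]
      exact natDim_subtype_mono (finDim X) inter_subset_left
    have h₃ : WeilCoh.dim X.scheme - WeilCoh.pdim X.scheme p = c := hp
    have := pdim_le_dim (finDim X) p
    omega⟩
  refine ⟨Y', inf_le_left, hY', hpc, ?_⟩
  have hsub : subι X K ⁻¹ᵁ Y' ≤ Y₁ := fun w hw => by_contra fun hw' => hw.2 ⟨w, hw', rfl⟩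
  have hd₁ : WeilCoh.dim (pc X K Y').scheme = WeilCoh.dim (Y₁ : Scheme.{u}) := by
    rw [dim_open_of_containsFj (sub X K) hY₁]
    have := hpc.dimPc
    omega
  rw [show pcHom hpc h inf_le_left = (sub X K).resLE hsub hd₁ ≫ (sub X K).resLE hle₁
    ((dim_open_of_containsFj (sub X K) hY₁).trans (dim_open_of_containsFj (sub X K) hYZ).symm) from
      Hom.ext ((sub X K).scheme.homOfLE_homOfLE hsub hle₁).symm, ← pull_comp, hz₁, map_zero]

theorem bijective_fjRes_of_closed (j m : ℕ) (i n : ℤ)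
    (hZ : ∀ (Z : Obj V) (ι : Z.scheme ⟶ X.scheme) [IsClosedImmersion ι] [IsReduced Z.scheme],
      WeilCoh.dim Z.scheme + (j + 1) = WeilCoh.dim X.scheme →
        IsZero (T.fjGp Z m M (i - 2 * ((j : ℤ) + 1)) (n - ((j : ℤ) + 1))) ∧
          IsZero (T.fjGp Z m M (i + 1 - 2 * ((j : ℤ) + 1)) (n - ((j : ℤ) + 1)))) :
    Function.Bijective ((T.fjRes X ((Nat.le_succ j).trans (Nat.le_add_right (j + 1) m)) i n).app M).hom := by
  rcases Nat.lt_or_ge (WeilCoh.dim X.scheme) (j + 1) with hd | hd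
  · exact bijective_fjRes_of_dim_le M _ (by omega) i n
  constructor
  · refine (injective_iff_map_eq_zero _).2 fun a ha => ?_
    obtain ⟨Y₀, hY₀, b, rfl⟩ := exists_cls T M (j + 1 + m) i n a
    rw [fjRes_cls] at ha
    obtain ⟨U, hUY₀, hU, hb⟩ := exists_pull_eq_zero T M _ i n b ha
    obtain ⟨U₁, p, K, hU₁U, hU₁, hKU, hpK, hK⟩ := exists_closed hd hU
    have h := isPc_of_mem hpK hK (dim_open_of_containsFj X hY₀) (hY₀ p.1 (by rw [p.2]; omega))
    have hU₁Y : U₁ ≤ Y₀ := hU₁U.trans hUY₀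
    have hUK : (U₁ : Set X.scheme) = (Y₀ : Set X.scheme) \ K := by
      rw [hKU, sdiff_compl]
      exact (inter_eq_right.2 hU₁Y).symm
    have hd₁ := dim_open_of_containsFj X hU₁
    obtain ⟨z, hz⟩ := exists_push T M h hUK hd₁ (i - 2 * ((j : ℤ) + 1)) (n - ((j : ℤ) + 1)) i n
      (by push_cast; ring) (by push_cast; ring) b (by
        rw [← resLE_comp X hU₁U hUY₀ (hd₁.trans (dim_open_of_containsFj X hU).symm)
          ((dim_open_of_containsFj X hU).trans h.dimY.symm), ← pull_comp, hb, map_zero])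
    haveI : IsReduced (sub X K).scheme := inferInstance
    obtain ⟨Y', hle, hY', h', hz'⟩ := exists_shrink_of_isZero M h hY₀ hK hpK p.2 _ _
      (hZ (sub X K) (subι X K) (by rw [dim_sub]; exact hK)).1 z
    rw [← cls_pull T M hY₀ hY' hle (h'.dimY.trans h.dimY.symm), ← hz, pull_push T M h' h hle, hz',
      map_zero, map_zero]
  · intro a
    obtain ⟨U, hU, b, rfl⟩ := exists_cls T M j i n a
    obtain ⟨U₁, p, K, hU₁U, hU₁, hKU, hpK, hK⟩ := exists_closed hd hU
    have hd₁ := dim_open_of_containsFj X hU₁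
    have h : IsPc X (j + 1) K ⊤ := isPc_of_mem hpK hK (dim_top X.scheme) trivial
    have hUK : (U₁ : Set X.scheme) = ((⊤ : X.scheme.Opens) : Set X.scheme) \ K := by
      rw [hKU]; simp
    rw [← cls_pull T M hU hU₁ hU₁U (hd₁.trans (dim_open_of_containsFj X hU).symm)]
    obtain ⟨Y', hle, hY', h', hz'⟩ := exists_shrink_of_isZero M h (containsFj_top X (j + 1 + m)) hK hpK p.2
      (i + 1 - 2 * ((j : ℤ) + 1)) (n - ((j : ℤ) + 1)) (hZ (sub X K) (subι X K) (by rw [dim_sub]; exact hK)).2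
      ((residue T M h hUK hd₁ i n _ _ (by push_cast; ring) (by push_cast; ring)).hom
        ((T.pull (X.resLE hU₁U (hd₁.trans (dim_open_of_containsFj X hU).symm)) M i n).hom b))
    let U' : X.scheme.Opens := Y' ⊓ U₁
    have hU' : (U' : Set X.scheme) = (Y' : Set X.scheme) \ K := by
      rw [hKU, sdiff_compl]; rfl
    have hU'j : ContainsFj X j U' := fun y hy => ⟨hY' y (by omega), hU₁ y hy⟩
    have hd' := dim_open_of_containsFj X hU'j
    rw [pull_residue T M h hUK hd₁ i n _ _ h' hle hU' hd' inf_le_right] at hz'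
    obtain ⟨b', hb'⟩ := exists_extension T M h' hU' hd' i n _ _ (by push_cast; ring) (by push_cast; ring) _ hz'
    refine ⟨(cls T M hY' i n).hom b', ?_⟩
    rw [fjRes_cls, ← cls_pull T M (containsFj_mono X ((Nat.le_succ j).trans (Nat.le_add_right (j + 1) m)) Y' hY')
      hU'j inf_le_left (hd'.trans h'.dimY.symm), hb', cls_pull T M hU₁ hU'j inf_le_right]

end Groth.Agent.BMLib
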