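import Groth.Agent.Lib.BMCoh.Split

/-!
Push-forward from and residues to finitely many points of one codimension, element by element.
-/

set_option autoImplicit false

universe u

open AlgebraicGeometry CategoryTheory CategoryTheory.Limits Opposite TopologicalSpace Set

namespace Groth.Agent.BMLib

open BMCoh

variable {V : ObjectProperty Scheme.{u}} [IsConstructible V] {R : Type u} [CommRing R] {A : Coefs R}
  (T : PreTheory V R A) {X : Obj V} (M : A.Cat)

attribute [local instance] isFiltered_fj isFiltered_pt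

/-- A closed set and an open which meet in a piece of codimension `c`. -/
structure IsPc (X : Obj V) (c : ℕ) (K : Closeds X.scheme) (Y : X.scheme.Opens) : Prop where
  dimY : WeilCoh.dim (Y : Scheme.{u}) = WeilCoh.dim X.scheme
  dimPc : WeilCoh.dim (pc X K Y).scheme + c = WeilCoh.dim X.scheme

variable {c : ℕ} {K : Closeds X.scheme} {Y Y' : X.scheme.Opens}

theorem IsPc.relCodim_eq (h : IsPc X c K Y) :
    relCodim (pc X K Y).scheme (X.res Y).scheme = c := by
  have h1 := h.dimY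
  have h2 := h.dimPc
  change (WeilCoh.dim (Y : Scheme.{u}) : ℤ) - WeilCoh.dim (pc X K Y).scheme = c
  omega

/-- Push-forward from a piece. -/
noncomputable def push (h : IsPc X c K Y) (i n i' n' : ℤ) (hi : i' = i + 2 * (c : ℤ))
    (hn : n' = n + (c : ℤ)) : T.gp (pc X K Y) M i n ⟶ T.gp (X.res Y) M i' n' :=
  T.push (pcι X K Y) M i n i' n' (by rw [h.relCodim_eq]; exact hi) (by rw [h.relCodim_eq]; exact hn)

/-- The morphism of pieces along an inclusion of opens. -/
noncomputable def pcHom (h' : IsPc X c K Y') (h : IsPc X c K Y) (hY : Y' ≤ Y) :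
    pc X K Y' ⟶ pc X K Y :=
  ⟨(sub X K).scheme.homOfLE ((subι X K).preimage_mono hY), inferInstance,
    Nat.add_right_cancel (h'.dimPc.trans h.dimPc.symm)⟩

theorem pull_push (h' : IsPc X c K Y') (h : IsPc X c K Y) (hY : Y' ≤ Y) (i n i' n' : ℤ)
    (hi : i' = i + 2 * (c : ℤ)) (hn : n' = n + (c : ℤ)) (z : T.gp (pc X K Y) M i n) :
    (T.pull (X.resLE hY (h'.dimY.trans h.dimY.symm)) M i' n').hom ((push T M h i n i' n' hi hn).hom z) =
      (push T M h' i n i' n' hi hn).hom ((T.pull (pcHom h' h hY) M i n).hom z) :=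
  congrArg (fun f => f.hom z) (T.push_pull (pcι X K Y) (pcι X K Y') (X.resLE hY (h'.dimY.trans h.dimY.symm))
    (pcHom h' h hY) (isPullback_pc X hY) M i n i' n' _ _ _ _)

section Residue

variable {U U' : X.scheme.Opens}

/-- The decomposition of an open by a piece of codimension `c`. -/
noncomputable abbrev decomp (h : IsPc X c K Y) (hU : (U : Set X.scheme) = (Y : Set X.scheme) \ K)
    (hd : WeilCoh.dim (U : Scheme.{u}) = WeilCoh.dim X.scheme) : Decomp (X.res Y) :=
  pcDecomp X K Y U (hU.trans_subset sdiff_subset) (hd.trans h.dimY.symm) hU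

/-- The residue of a class to a piece. -/
noncomputable def residue (h : IsPc X c K Y) (hU : (U : Set X.scheme) = (Y : Set X.scheme) \ K)
    (hd : WeilCoh.dim (U : Scheme.{u}) = WeilCoh.dim X.scheme) (i n i' n' : ℤ)
    (hi : i' = i + 1 - 2 * (c : ℤ)) (hn : n' = n - (c : ℤ)) :
    T.gp (X.res U) M i n ⟶ T.gp (pc X K Y) M i' n' :=
  T.res (decomp h hU hd) M i n i' n'
    (hi.trans (by rw [show (decomp h hU hd).codim = c from h.relCodim_eq]))
    (hn.trans (by rw [show (decomp h hU hd).codim = c from h.relCodim_eq]))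

variable (h : IsPc X c K Y) (hU : (U : Set X.scheme) = (Y : Set X.scheme) \ K)
  (hd : WeilCoh.dim (U : Scheme.{u}) = WeilCoh.dim X.scheme) (i n i' n' : ℤ)
include h hU hd

theorem exists_extension (hi : i' = i + 1 - 2 * (c : ℤ)) (hn : n' = n - (c : ℤ))
    (a : T.gp (X.res U) M i n) (ha : (residue T M h hU hd i n i' n' hi hn).hom a = 0) :
    ∃ b : T.gp (X.res Y) M i n,
      (T.pull (X.resLE (hU.trans_subset sdiff_subset) (hd.trans h.dimY.symm)) M i n).hom b = a :=
  exists_pull_of_res_zero T M (decomp h hU hd) i n i' n' _ _ a ha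

theorem residue_pull_eq_zero (hi : i' = i + 1 - 2 * (c : ℤ)) (hn : n' = n - (c : ℤ))
    (b : T.gp (X.res Y) M i n) : (residue T M h hU hd i n i' n' hi hn).hom
      ((T.pull (X.resLE (hU.trans_subset sdiff_subset) (hd.trans h.dimY.symm)) M i n).hom b) = 0 :=
  res_pull_eq_zero T M (decomp h hU hd) i n i' n' _ _ b

theorem pull_push_zero (hi : i' = i + 2 * (c : ℤ)) (hn : n' = n + (c : ℤ))
    (z : T.gp (pc X K Y) M i n) :
    (T.pull (X.resLE (hU.trans_subset sdiff_subset) (hd.trans h.dimY.symm)) M i' n').hom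
      ((push T M h i n i' n' hi hn).hom z) = 0 :=
  pull_push_eq_zero T M (decomp h hU hd) i n i' n' _ _ z

theorem exists_push (hi : i' = i + 2 * (c : ℤ)) (hn : n' = n + (c : ℤ)) (a : T.gp (X.res Y) M i' n')
    (ha : (T.pull (X.resLE (hU.trans_subset sdiff_subset) (hd.trans h.dimY.symm)) M i' n').hom a = 0) :
    ∃ z : T.gp (pc X K Y) M i n, (push T M h i n i' n' hi hn).hom z = a :=
  exists_push_of_pull_zero T M (decomp h hU hd) i n i' n' _ _ a ha

theorem push_residue_eq_zero (i'' : ℤ) (hi : i' = i + 1 - 2 * (c : ℤ)) (hn : n' = n - (c : ℤ))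
    (hi' : i'' = i' + 2 * (c : ℤ)) (hn' : n = n' + (c : ℤ)) (a : T.gp (X.res U) M i n) :
    (push T M h i' n' i'' n hi' hn').hom ((residue T M h hU hd i n i' n' hi hn).hom a) = 0 :=
  push_res_eq_zero T M (decomp h hU hd) i n i' n' i'' _ _ _ _ a

theorem exists_residue (i'' : ℤ) (hi : i' = i + 1 - 2 * (c : ℤ)) (hn : n' = n - (c : ℤ))
    (hi' : i'' = i' + 2 * (c : ℤ)) (hn' : n = n' + (c : ℤ)) (z : T.gp (pc X K Y) M i' n')
    (hz : (push T M h i' n' i'' n hi' hn').hom z = 0) :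
    ∃ a, (residue T M h hU hd i n i' n' hi hn).hom a = z :=
  exists_res_of_push_zero T M (decomp h hU hd) i n i' n' i'' _ _ _ _ z hz

theorem pull_residue (h' : IsPc X c K Y') (hY : Y' ≤ Y)
    (hU' : (U' : Set X.scheme) = (Y' : Set X.scheme) \ K)
    (hd' : WeilCoh.dim (U' : Scheme.{u}) = WeilCoh.dim X.scheme) (hUU : U' ≤ U)
    (hi : i' = i + 1 - 2 * (c : ℤ)) (hn : n' = n - (c : ℤ)) (a : T.gp (X.res U) M i n) :
    (T.pull (pcHom h' h hY) M i' n').hom ((residue T M h hU hd i n i' n' hi hn).hom a) =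
      (residue T M h' hU' hd' i n i' n' hi hn).hom
        ((T.pull (X.resLE hUU (hd'.trans hd.symm)) M i n).hom a) :=
  congrArg (fun f => f.hom a) (T.res_pull (decomp h hU hd) (decomp h' hU' hd')
    (X.resLE hY (h'.dimY.trans h.dimY.symm)) (pcHom h' h hY) (X.resLE hUU (hd'.trans hd.symm))
    (isPullback_pc X hY).w ((resLE_comp X _ _ _ _).trans (resLE_comp X _ _ _ _).symm) M i n i' n' _ _ _ _)

end Residue

/-- The union of the closures of finitely many points. -/
noncomputable def cl (S : Finset (X.cdPt c)) : Closeds X.scheme :=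
  ⟨⋃ s ∈ S, closure {s.1}, S.finite_toSet.isClosed_biUnion fun _ _ => isClosed_closure⟩

theorem mem_cl {S : Finset (X.cdPt c)} {y : X.scheme} :
    y ∈ (cl S : Set X.scheme) ↔ ∃ s ∈ S, s.1 ⤳ y := by
  simp [cl, specializes_iff_mem_closure]

theorem le_codim_of_mem_cl {S : Finset (X.cdPt c)} {y : X.scheme} (hy : y ∈ (cl S : Set X.scheme)) :
    c ≤ WeilCoh.codim X.scheme y := by
  obtain ⟨s, -, hs⟩ := mem_cl.1 hy
  by_cases he : y = s.1
  · rw [he, s.2]
  · exact s.2.symm.le.trans (codim_lt_of_specializes (finDim X) hs he).le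

theorem mem_of_mem_cl {S : Finset (X.cdPt c)} {x : X.cdPt c} (hx : x.1 ∈ (cl S : Set X.scheme)) :
    x ∈ S := by
  obtain ⟨s, hsS, hs⟩ := mem_cl.1 hx
  have : x.1 = s.1 := specializes_eq_of_codim_le (finDim X) hs (by rw [x.2, s.2])
  exact (Subtype.ext this : x = s) ▸ hsS

/-- Finitely many points whose closures are disjoint in an open. -/
structure Good (S : Finset (X.cdPt c)) (Y : X.scheme.Opens) : Prop where
  dimY : WeilCoh.dim (Y : Scheme.{u}) = WeilCoh.dim X.scheme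
  mem : ∀ s ∈ S, s.1 ∈ Y
  eq : ∀ s ∈ S, ∀ t ∈ S, ∀ y ∈ Y, s.1 ⤳ y → t.1 ⤳ y → s = t

variable {S : Finset (X.cdPt c)}

theorem Good.of_le (h : Good S Y) (hY : Y' ≤ Y) (hY' : ContainsFj X c Y') : Good S Y' :=
  ⟨dim_open_of_containsFj X hY', fun s _ => hY' _ s.2.le,
    fun s hs t ht y hy => h.eq s hs t ht y (hY hy)⟩

theorem natDim_biUnion_le {T' : Type*} [TopologicalSpace T'] (hfin : topologicalKrullDim T' < ⊤)
    {ι : Type*} [Finite ι] [Nonempty ι] (F : ι → Set T') (hF : ∀ i, IsClosed (F i)) (d : ℕ)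
    (hd : ∀ i, WeilCoh.natDim (F i) ≤ d) : WeilCoh.natDim (⋃ i, F i : Set T') ≤ d := by
  let Z : Set T' := ⋃ i, F i
  have h := TopDimLib.dim_eq_iSup_finite_closed (X := Z) (fun i => Subtype.val ⁻¹' F i)
    (fun i => (hF i).preimage continuous_subtype_val) (by ext ⟨z, hz⟩; simpa [Z] using hz)
  obtain ⟨i, hi⟩ := exists_eq_ciSup_of_finite
    (f := fun i => topologicalKrullDim (Subtype.val ⁻¹' F i : Set Z))
  have hle : WeilCoh.natDim (Subtype.val ⁻¹' F i : Set Z) ≤ WeilCoh.natDim (F i) :=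
    natDim_le_of_inducing ((topologicalKrullDim_subspace_le T' (F i)).trans_lt hfin)
      (f := fun z => (⟨z.1.1, z.2⟩ : F i))
      (Topology.IsInducing.of_comp (g := (Subtype.val : F i → T'))
        (Continuous.subtype_mk (continuous_subtype_val.comp continuous_subtype_val) _)
        continuous_subtype_val (show Topology.IsInducing ((Subtype.val : Z → T') ∘ (Subtype.val : (Subtype.val ⁻¹' F i : Set Z) → Z))
          from Topology.IsInducing.subtypeVal.comp Topology.IsInducing.subtypeVal))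
  refine le_trans (le_of_eq ?_) (hle.trans (hd i))
  unfold WeilCoh.natDim
  rw [h, ← hi]

theorem natDim_cl_le (S : Finset (X.cdPt c)) (hS : S.Nonempty) :
    WeilCoh.natDim (cl S : Set X.scheme) ≤ WeilCoh.dim X.scheme - c := by
  obtain ⟨s₀, hs₀⟩ := hS
  have : Nonempty S := ⟨⟨s₀, hs₀⟩⟩
  have he : (cl S : Set X.scheme) = ⋃ s : S, closure {s.1.1} := by
    ext y; simp [cl]
  rw [he]
  refine natDim_biUnion_le (finDim X) _ (fun _ => isClosed_closure) _ fun s => ?_
  have h₁ := pdim_le_dim (finDim X) s.1.1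
  have h₂ : WeilCoh.dim X.scheme - WeilCoh.pdim X.scheme s.1.1 = c := s.1.2
  change WeilCoh.pdim X.scheme s.1.1 ≤ _
  omega

theorem Good.isPc_pt (h : Good S Y) {s : X.cdPt c} (hs : s ∈ S) : IsPc X c (pt X s.1) Y := by
  refine ⟨h.dimY, ?_⟩
  have h₁ := pdim_le_dim (finDim X) s.1
  have h₂ : WeilCoh.dim X.scheme - WeilCoh.pdim X.scheme s.1 = c := s.2
  rw [dim_pc_pt X (h.mem s hs)]
  omega

theorem Good.isPc (h : Good S Y) (hS : S.Nonempty) : IsPc X c (cl S) Y := by
  refine ⟨h.dimY, ?_⟩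
  obtain ⟨s, hs⟩ := hS
  have hsub : (closure {s.1} : Set X.scheme) ∩ Y ⊆ (cl S : Set X.scheme) ∩ Y :=
    inter_subset_inter_left _ fun y hy => mem_cl.2 ⟨s, hs, specializes_iff_mem_closure.2 hy⟩
  have h₁ : WeilCoh.dim (pc X (pt X s.1) Y).scheme ≤ WeilCoh.dim (pc X (cl S) Y).scheme := by
    rw [dim_pc, dim_pc]
    exact natDim_subtype_mono (finDim X) hsub
  have h₂ : WeilCoh.dim (pc X (cl S) Y).scheme ≤ WeilCoh.dim X.scheme - c := by
    rw [dim_pc]
    exact (natDim_subtype_mono (finDim X) inter_subset_left).trans (natDim_cl_le S ⟨s, hs⟩)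
  have h₃ := (h.isPc_pt hs).dimPc
  omega

theorem pt_sub {s : X.cdPt c} (hs : s ∈ S) (Y : X.scheme.Opens) :
    (pt X s.1 : Set X.scheme) ∩ Y ⊆ (cl S : Set X.scheme) ∩ Y :=
  inter_subset_inter_left _ fun _ hy => mem_cl.2 ⟨s, hs, specializes_iff_mem_closure.2 hy⟩

/-- The inclusion of the piece of one point. -/
noncomputable def incl (h : Good S Y) {s : X.cdPt c} (hs : s ∈ S) :
    pc X (pt X s.1) Y ⟶ pc X (cl S) Y where
  hom := pcMap X (pt_sub hs Y)
  isOpenImmersion := by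
    classical
    refine isOpenImmersion_pcMap X _ ⟨(cl (S.erase s) : Set X.scheme)ᶜ, (cl (S.erase s)).isClosed.isOpen_compl⟩ ?_
    ext y
    constructor
    · rintro ⟨hy, hyY⟩
      refine ⟨⟨mem_cl.2 ⟨s, hs, specializes_iff_mem_closure.2 hy⟩, hyY⟩, fun hy' => ?_⟩
      obtain ⟨t, ht, hty⟩ := mem_cl.1 hy'
      exact (Finset.mem_erase.1 ht).1
        (h.eq t (Finset.mem_of_mem_erase ht) s hs y hyY hty (specializes_iff_mem_closure.2 hy))
    · rintro ⟨⟨hy, hyY⟩, hy'⟩
      obtain ⟨t, ht, hty⟩ := mem_cl.1 hy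
      by_cases he : t = s
      · exact ⟨specializes_iff_mem_closure.1 (he ▸ hty), hyY⟩
      · exact absurd (mem_cl.2 ⟨t, Finset.mem_erase.2 ⟨he, ht⟩, hty⟩) hy'
  dim_eq := Nat.add_right_cancel ((h.isPc_pt hs).dimPc.trans (h.isPc ⟨s, hs⟩).dimPc.symm)

instance incl_closed (h : Good S Y) {s : X.cdPt c} (hs : s ∈ S) :
    IsClosedImmersion (incl h hs).hom := isClosedImmersion_pcMap X (pt_sub hs Y)

theorem range_incl (h : Good S Y) {s : X.cdPt c} (hs : s ∈ S) :
    range (incl h hs).hom = pcX X (cl S) Y ⁻¹' ((closure {s.1} : Set X.scheme) ∩ Y) :=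
  range_pcMap X (pt_sub hs Y)

theorem incl_pcι (h : Good S Y) {s : X.cdPt c} (hs : s ∈ S) :
    (incl h hs).hom ≫ pcι X (cl S) Y = pcι X (pt X s.1) Y := by
  rw [← cancel_mono Y.ι, Category.assoc, pcι_ι, pcι_ι]
  exact pcMap_pcX X (pt_sub hs Y)

theorem push_incl (h : Good S Y) {s : X.cdPt c} (hs : s ∈ S) (i n i' n' : ℤ)
    (hi : i' = i + 2 * (c : ℤ)) (hn : n' = n + (c : ℤ)) (b : T.gp (pc X (pt X s.1) Y) M i n) :
    (push T M (h.isPc ⟨s, hs⟩) i n i' n' hi hn).hom
      ((T.push (incl h hs).hom M i n i n (by rw [relCodim_eq_zero (incl h hs)]; omega)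
        (by rw [relCodim_eq_zero (incl h hs)]; omega)).hom b) =
      (push T M (h.isPc_pt hs) i n i' n' hi hn).hom b := by
  have hc := T.push_comp (incl h hs).hom (pcι X (cl S) Y) M i n i n i' n'
    (by rw [relCodim_eq_zero (incl h hs)]; omega) (by rw [relCodim_eq_zero (incl h hs)]; omega)
    (by rw [(h.isPc ⟨s, hs⟩).relCodim_eq]; exact hi) (by rw [(h.isPc ⟨s, hs⟩).relCodim_eq]; exact hn)
    (by rw [(h.isPc_pt hs).relCodim_eq]; exact hi) (by rw [(h.isPc_pt hs).relCodim_eq]; exact hn)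
  simp only [incl_pcι] at hc
  exact congrArg (fun f => f.hom b) hc

theorem incl_pairwise (h : Good S Y) :
    Pairwise fun s t : S => Disjoint (range (incl h s.2).hom) (range (incl h t.2).hom) := by
  intro s t hst
  rw [range_incl, range_incl, Set.disjoint_left]
  rintro z ⟨hz, hzY⟩ ⟨hz', -⟩
  exact hst (Subtype.ext (h.eq s s.2 t t.2 _ hzY (specializes_iff_mem_closure.2 hz)
    (specializes_iff_mem_closure.2 hz')))

theorem incl_cover (h : Good S Y) : ⋃ s : S, range (incl h s.2).hom = univ := by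
  refine eq_univ_of_forall fun z => mem_iUnion.2 ?_
  obtain ⟨hz, hzY⟩ := (range_pcX X (cl S) Y).subset ⟨z, rfl⟩
  obtain ⟨s, hs, hsz⟩ := mem_cl.1 hz
  exact ⟨⟨s, hs⟩, by rw [range_incl]; exact ⟨specializes_iff_mem_closure.1 hsz, hzY⟩⟩

theorem Good.eq_zero (h : Good S Y) (i n : ℤ) (z : T.gp (pc X (cl S) Y) M i n)
    (hz : ∀ s : S, (T.pull (incl h s.2) M i n).hom z = 0) : z = 0 :=
  eq_zero_of_split T M (fun s : S => pc X (pt X s.1.1) Y) (fun s => incl h s.2) (incl_pairwise h)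
    (incl_cover h) i n z hz

theorem Good.exists_glue (h : Good S Y) (i n : ℤ) (b : ∀ s : S, T.gp (pc X (pt X s.1.1) Y) M i n) :
    ∃ z : T.gp (pc X (cl S) Y) M i n, ∀ s : S, (T.pull (incl h s.2) M i n).hom z = b s :=
  Groth.Agent.BMLib.exists_glue T M (fun s : S => pc X (pt X s.1.1) Y) (fun s => incl h s.2)
    (incl_pairwise h) i n b

theorem Good.push_eq_sum (h : Good S Y) (hS : S.Nonempty) (i n i' n' : ℤ)
    (hi : i' = i + 2 * (c : ℤ)) (hn : n' = n + (c : ℤ)) (z : T.gp (pc X (cl S) Y) M i n) :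
    (push T M (h.isPc hS) i n i' n' hi hn).hom z = ∑ s : S,
      (push T M (h.isPc_pt s.2) i n i' n' hi hn).hom ((T.pull (incl h s.2) M i n).hom z) := by
  conv_lhs => rw [eq_sum_push T M (fun s : S => pc X (pt X s.1.1) Y) (fun s => incl h s.2)
    (incl_pairwise h) (incl_cover h) i n z]
  rw [map_sum]
  exact Finset.sum_congr rfl fun s _ => push_incl T M h s.2 i n i' n' hi hn _

theorem pcHom_incl (h : Good S Y) (h' : Good S Y') (hY : Y' ≤ Y) {s : X.cdPt c} (hs : s ∈ S) :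
    pcHom (h'.isPc_pt hs) (h.isPc_pt hs) hY ≫ incl h hs =
      incl h' hs ≫ pcHom (h'.isPc ⟨s, hs⟩) (h.isPc ⟨s, hs⟩) hY := by
  refine Hom.ext (pcX_inj X ?_)
  simp only [comp_hom, pcHom, incl, Category.assoc]
  rw [pcMap_pcX, Scheme.homOfLE_ι_assoc, Scheme.homOfLE_ι_assoc, pcMap_pcX]

end Groth.Agent.BMLib
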