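import Groth.Agent.Lib.BMCoh.Vanishing
import Groth.Agent.Lib.BMCoh.Unique

/-!
The groups of `F_0` of a reduced object, and the criterion through closed subschemes.
-/

set_option autoImplicit false

universe u

open AlgebraicGeometry CategoryTheory CategoryTheory.Limits Opposite TopologicalSpace Set DirectSum

namespace Groth.Agent.BMLib

open BMCoh

variable {V : ObjectProperty Scheme.{u}} [IsConstructible V] {R : Type u} [CommRing R] {A : Coefs R}
  {T : PreTheory V R A} {X : Obj V} (M : A.Cat)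

attribute [local instance] isFiltered_fj isFiltered_pt

theorem finite_cdPt_zero : Finite (X.cdPt 0) := by
  have h := finite_minimal_codim (finDim X) isClosed_univ 0 (fun _ _ => Nat.zero_le _)
  have : {y : X.scheme | WeilCoh.codim X.scheme y = 0}.Finite := h.subset fun y hy => ⟨trivial, hy⟩
  exact this.to_subtype

theorem exists_cover_zero {Y₀ : X.scheme.Opens} (hY₀ : ContainsFj X 0 Y₀) (S : Finset (X.cdPt 0))
    (hS : ∀ s, s ∈ S) :
    ∃ Y : X.scheme.Opens, Y ≤ Y₀ ∧ ContainsFj X 0 Y ∧ Good S Y ∧ (Y : Set X.scheme) ⊆ cl S := by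
  obtain ⟨Tc, hTfin, hTcl, hTirr, hT⟩ :=
    NoetherianSpace.exists_finite_set_isClosed_irreducible (α := X.scheme) isClosed_univ
  let Bad : Set (Set X.scheme) := {t ∈ Tc | ∀ s ∈ S, ¬ t ⊆ closure {s.1}}
  have hBad : Bad.Finite := hTfin.subset fun t ht => ht.1
  have hC : IsClosed (⋃₀ Bad) := by
    rw [sUnion_eq_biUnion]; exact hBad.isClosed_biUnion fun t ht => hTcl t ht.1
  obtain ⟨Y, hle, hY, hg, hdis⟩ := exists_good hY₀ S hC fun y hy => by
    obtain ⟨t, ⟨ht, hts⟩, hyt⟩ := hy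
    by_contra hy0
    have hgp := (hTirr t ht).isGenericPoint_genericPoint_closure
    have hgy := specializes_eq_of_codim_le (finDim X) (hgp.specializes (subset_closure hyt))
      ((not_lt.1 hy0).trans (Nat.zero_le _))
    refine hts ⟨y, Nat.le_zero.1 (not_lt.1 hy0)⟩ (hS _) ?_
    rw [← (hTcl t ht).closure_eq, ← hgp.def]
    exact (congrArg (fun z : X.scheme => closure ({z} : Set X.scheme)) hgy.symm).subset
  refine ⟨Y, hle, hY, hg, fun y hy => ?_⟩
  obtain ⟨t, ht, hyt⟩ : y ∈ ⋃₀ Tc := hT ▸ mem_univ y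
  by_cases hb : ∀ s ∈ S, ¬ t ⊆ closure {s.1}
  · exact absurd ⟨t, ⟨ht, hb⟩, hyt⟩ (disjoint_left.1 hdis hy)
  · push_neg at hb
    obtain ⟨s, hs, hts⟩ := hb
    exact mem_cl.2 ⟨s, hs, specializes_iff_mem_closure.2 (hts hyt)⟩

theorem bijective_push_of_subset [IsReduced X.scheme] {c : ℕ} {S : Finset (X.cdPt c)}
    {Y : X.scheme.Opens} (h : IsPc X c (cl S) Y) (hc : c = 0) (hYS : (Y : Set X.scheme) ⊆ cl S)
    (i n i' n' : ℤ) (hi : i' = i + 2 * (c : ℤ)) (hn : n' = n + (c : ℤ)) :
    Function.Bijective (push T M h i n i' n' hi hn).hom := by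
  obtain rfl : i' = i := by rw [hi, hc]; simp
  obtain rfl : n' = n := by rw [hn, hc]; simp
  haveI : IsReduced (X.res Y).scheme := isReduced_of_isOpenImmersion Y.ι
  haveI : AlgebraicGeometry.Surjective (pcι X (cl S) Y) := ⟨fun y => by
    have hy : Y.ι y ∈ (Y : Set X.scheme) := Y.range_ι.subset ⟨y, rfl⟩
    obtain ⟨z, hz⟩ := (range_pcX X (cl S) Y).symm.subset ⟨hYS hy, hy⟩
    refine ⟨z, Y.ι.isEmbedding.injective ?_⟩
    rw [← Scheme.Hom.comp_apply, pcι_ι, hz]⟩
  haveI : IsIso (pcι X (cl S) Y) := isIso_of_isClosedImmersion_of_surjective _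
  have hrc : relCodim (pc X (cl S) Y).scheme (X.res Y).scheme = 0 := by rw [h.relCodim_eq, hc]; rfl
  have hrc' : relCodim (X.res Y).scheme (pc X (cl S) Y).scheme = 0 := by
    unfold relCodim at hrc ⊢
    omega
  refine Function.bijective_iff_has_inverse.2 ⟨(T.push (inv (pcι X (cl S) Y)) M i' n' i' n'
    (by rw [hrc']; omega) (by rw [hrc']; omega)).hom, fun z => ?_, fun z => ?_⟩
  · have := T.push_comp (pcι X (cl S) Y) (inv (pcι X (cl S) Y)) M i' n' i' n' i' n'
      (by rw [hrc]; omega) (by rw [hrc]; omega) (by rw [hrc']; omega) (by rw [hrc']; omega)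
      (by simp [relCodim]) (by simp [relCodim])
    simp only [IsIso.hom_inv_id, T.push_id] at this
    exact congrArg (fun f => f.hom z) this
  · have := T.push_comp (inv (pcι X (cl S) Y)) (pcι X (cl S) Y) M i' n' i' n' i' n'
      (by rw [hrc']; omega) (by rw [hrc']; omega) (by rw [hrc]; omega) (by rw [hrc]; omega)
      (by simp [relCodim]) (by simp [relCodim])
    simp only [IsIso.inv_hom_id, T.push_id] at this
    exact congrArg (fun f => f.hom z) this

/-- Every class of `F_0` of a reduced object is a push-forward from the generic points. -/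
theorem exists_push_zero [IsReduced X.scheme] (i n i' n' : ℤ) (hi : i' = i + 2 * ((0 : ℕ) : ℤ))
    (hn : n' = n + ((0 : ℕ) : ℤ)) (a : T.fjGp X 0 M i' n') :
    a = 0 ∨ ∃ (S : Finset (X.cdPt 0)) (hS : S.Nonempty) (Y : X.scheme.Opens)
      (hY : ContainsFj X 0 Y) (hg : Good S Y) (z : T.gp (pc X (cl S) Y) M i n),
      a = (cls T M hY i' n').hom ((push T M (hg.isPc hS) i n i' n' hi hn).hom z) := by
  have := finite_cdPt_zero (X := X)
  have := Fintype.ofFinite (X.cdPt 0)
  obtain ⟨Y₀, hY₀, b, rfl⟩ := exists_cls T M 0 i' n' a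
  obtain ⟨Y, hle, hY, hg, hYS⟩ := exists_cover_zero hY₀ Finset.univ Finset.mem_univ
  rw [← cls_pull T M hY₀ hY hle (hg.dimY.trans (dim_open_of_containsFj X hY₀).symm)]
  rcases (Finset.univ : Finset (X.cdPt 0)).eq_empty_or_nonempty with hS | hS
  · left
    have : IsEmpty (X.res Y).scheme := ⟨fun y => by
      have hy : Y.ι y ∈ (cl (Finset.univ : Finset (X.cdPt 0)) : Set X.scheme) :=
        hYS (Y.range_ι.subset ⟨y, rfl⟩)
      simp [hS, cl] at hy⟩
    rw [eq_zero_of_isEmpty T M i' n' ((T.pull (X.resLE hle _) M i' n').hom b), map_zero]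
  · right
    obtain ⟨z, hz⟩ := (bijective_push_of_subset (T := T) M (hg.isPc hS) rfl hYS i n i' n' hi hn).2
      ((T.pull (X.resLE hle (hg.dimY.trans (dim_open_of_containsFj X hY₀).symm)) M i' n').hom b)
    exact ⟨_, hS, Y, hY, hg, z, by rw [hz]⟩

theorem bijective_pushData_tot [IsReduced X.scheme] (P : T.PushData X 0) (i n i' n' : ℤ)
    (hi : i' = i + 2 * ((0 : ℕ) : ℤ)) (hn : n' = n + ((0 : ℕ) : ℤ)) :
    Function.Bijective (P.tot M i n i' n' hi hn).hom := by
  classical
  have := finite_cdPt_zero (X := X)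
  have := Fintype.ofFinite (X.cdPt 0)
  constructor
  · refine (injective_iff_map_eq_zero _).2 fun w hw => ?_
    have hrep : ∀ s : X.cdPt 0, ∃ (Y : X.scheme.Opens) (hY : ContainsFj X 0 Y)
        (b : T.gp (pc X (pt X s.1) Y) M i n), (ptCls T M (hY s.1 s.2.le) i n).hom b = w s :=
      fun s => exists_ptCls T M s i n (w s)
    choose Ys hYs bs hbs using hrep
    let Y₀ : X.scheme.Opens := ⟨⋂ s, (Ys s : Set X.scheme), isOpen_iInter_of_finite fun s => (Ys s).isOpen⟩
    obtain ⟨Y, hle, hY, hg, hYS⟩ := exists_cover_zero (Y₀ := Y₀)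
      (fun y hy => mem_iInter.2 fun s => hYs s y hy) Finset.univ Finset.mem_univ
    refine DFinsupp.ext fun x => ?_
    have hS : (Finset.univ : Finset (X.cdPt 0)).Nonempty := ⟨x, Finset.mem_univ x⟩
    have hles : ∀ s, Y ≤ Ys s := fun s y hy => mem_iInter.1 (hle hy) s
    have hps : ∀ s, IsPc X 0 (pt X s.1) (Ys s) := fun s =>
      ⟨dim_open_of_containsFj X (hYs s), by
        rw [dim_pc_pt X (hYs s s.1 s.2.le), ← dim_pc_pt X (hY s.1 s.2.le)]
        exact (hg.isPc_pt (Finset.mem_univ s)).dimPc⟩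
    obtain ⟨z, hz⟩ := hg.exists_glue T M i n
      fun s => (T.pull (pcHom (hg.isPc_pt s.2) (hps s.1) (hles s.1)) M i n).hom (bs s.1)
    have hwz : ∀ s : (Finset.univ : Finset (X.cdPt 0)),
        (ptCls T M (hY s.1.1 s.1.2.le) i n).hom ((T.pull (incl hg s.2) M i n).hom z) = w s.1 := fun s => by
      rw [hz, ptCls_pull T M (hps s.1) (hg.isPc_pt s.2) (hYs s.1 s.1.1 s.1.2.le), hbs]
    have hwS : w = ∑ s : (Finset.univ : Finset (X.cdPt 0)),
        DirectSum.lof R (X.cdPt 0) (fun y => T.ptGp X y.1 M i n) s.1 (w s.1) := by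
      rw [Finset.univ.sum_coe_sort fun s : X.cdPt 0 => DirectSum.lof R (X.cdPt 0) (fun y => T.ptGp X y.1 M i n) s (w s)]
      exact (DirectSum.sum_univ_of w).symm
    have hpush : (cls T M hY i' n').hom ((push T M (hg.isPc hS) i n i' n' hi hn).hom z) = 0 := by
      rw [← hw, hwS, map_sum, hg.push_eq_sum T M hS, map_sum]
      refine Finset.sum_congr rfl fun s _ => ?_
      rw [PreTheory.PushData.tot_lof, ← hwz, pushData_ptCls M P s.1 (hg.isPc_pt s.2) hY]
    obtain ⟨Y', hle', hY', hz'⟩ := exists_pull_eq_zero T M hY i' n' _ hpush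
    have hg' := hg.of_le hle' hY'
    rw [pull_push T M (hg'.isPc hS) (hg.isPc hS) hle'] at hz'
    have hz0 := (injective_iff_map_eq_zero _).1 (bijective_push_of_subset (T := T) M (hg'.isPc hS) rfl
      (fun y hy => hYS (hle' hy)) i n i' n' hi hn).1 _ hz'
    have hxm := Finset.mem_univ x
    rw [← hwz ⟨x, hxm⟩, ← ptCls_pull T M (hg.isPc_pt hxm) (hg'.isPc_pt hxm) (hY x.1 x.2.le)
      (hY' x.1 x.2.le) hle', pull_comp, pcHom_incl hg hg' hle' hxm, ← pull_comp, hz0, map_zero, map_zero]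
    rfl
  · intro a
    rcases exists_push_zero M i n i' n' hi hn a with rfl | ⟨S, hS, Y, hY, hg, z, rfl⟩
    · exact ⟨0, map_zero _⟩
    · refine ⟨∑ s : S, DirectSum.lof R (X.cdPt 0) (fun y => T.ptGp X y.1 M i n) s.1
        ((ptCls T M (hY s.1.1 s.1.2.le) i n).hom ((T.pull (incl hg s.2) M i n).hom z)), ?_⟩
      rw [map_sum, hg.push_eq_sum T M hS, map_sum]
      refine Finset.sum_congr rfl fun s _ => ?_
      rw [PreTheory.PushData.tot_lof, pushData_ptCls M P s.1 (hg.isPc_pt s.2) hY]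

theorem isZero_fjGp [IsReduced X.scheme] (c : ℕ)
    (hc : ∀ (y : X.scheme) (i n : ℤ), (WeilCoh.pdim X.scheme y : ℤ) + c < i → IsZero (T.ptGp X y M i n))
    (j : ℕ) : ∀ i n : ℤ, (WeilCoh.dim X.scheme : ℤ) + j + c < i → IsZero (T.fjGp X j M i n) := by
  induction j with
  | zero =>
    intro i n hi
    suffices h : ∀ a : T.fjGp X 0 M i n, a = 0 by
      haveI : Subsingleton (T.fjGp X 0 M i n) := ⟨fun a b => (h a).trans (h b).symm⟩
      exact ModuleCat.isZero_of_subsingleton _
    intro a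
    rcases exists_push_zero M i n i n (by simp) (by simp) a with rfl | ⟨S, hS, Y, hY, hg, z, rfl⟩
    · rfl
    · obtain ⟨Y', hle, hY', hz⟩ := exists_shrink_eq_zero T M hg hY hS i n z fun s =>
        eq_zero_of_isZero (hc _ i n (by have := pdim_le_dim (finDim X) s.1.1; push_cast at hi; omega)) _
      rw [← cls_pull T M hY hY' hle ((hg.of_le hle hY').dimY.trans hg.dimY.symm),
        pull_push T M ((hg.of_le hle hY').isPc hS) (hg.isPc hS) hle, hz, map_zero, map_zero]
  | succ j ih =>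
    intro i n hi
    have hinj := injective_fjRes (T := T) (X := X) M (j := j) i n fun x hx => hc x _ _ (by
      have h₁ : WeilCoh.dim X.scheme - WeilCoh.pdim X.scheme x = j + 1 := hx
      have := pdim_le_dim (finDim X) x
      omega)
    haveI := ModuleCat.subsingleton_of_isZero (ih i n (by push_cast at hi; omega))
    haveI : Subsingleton (T.fjGp X (j + 1) M i n) := hinj.subsingleton
    exact ModuleCat.isZero_of_subsingleton _

end Groth.Agent.BMLib
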