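import Groth.Agent.Lib.BMCoh.Pieces
import Mathlib.Algebra.Category.ModuleCat.FilteredColimits
import Mathlib.CategoryTheory.Limits.ConcreteCategory.Basic
import Mathlib.CategoryTheory.Limits.FunctorCategory.Finite

/-!
Elementwise description of the colimit groups, and basic identities of a pre-theory.
-/

set_option autoImplicit false

universe u

open AlgebraicGeometry CategoryTheory CategoryTheory.Limits Opposite TopologicalSpace Set

namespace Groth.Agent.BMLib

open BMCoh

variable {V : ObjectProperty Scheme.{u}} [IsConstructible V] {R : Type u} [CommRing R] {A : Coefs R}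
  (T : PreTheory V R A) (X : Obj V) (M : A.Cat) (i n : ℤ)


theorem isFiltered_fj (j : ℕ) : IsFiltered (Idx X (ContainsFj X j))ᵒᵖ := by
  have : Nonempty (Idx X (ContainsFj X j)) := ⟨fjIdx X ⊤ fun _ _ => trivial⟩
  have : IsCodirectedOrder (Idx X (ContainsFj X j)) := ⟨fun U U' =>
    ⟨fjIdx X (U.1 ⊓ U'.1) fun y hy => ⟨U.2.1 y hy, U'.2.1 y hy⟩, inf_le_left (b := U'.1),
      inf_le_right (a := U.1)⟩⟩
  infer_instance

theorem isFiltered_pt (x : X.scheme) : IsFiltered (ptIdx X x)ᵒᵖ := by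
  have hx : x ∈ (⊤ : X.scheme.Opens) := trivial
  have : Nonempty (ptIdx X x) := ⟨pcIdx X hx⟩
  have := irreducibleSpace_sub_pt X x
  have : IsCodirectedOrder (ptIdx X x) := ⟨fun U U' => by
    have hne : ((U.1 ⊓ U'.1 : (X.ptSub x).scheme.Opens) : Set (X.ptSub x).scheme).Nonempty :=
      nonempty_preirreducible_inter U.1.isOpen U'.1.isOpen U.2.1 U'.2.1
    exact ⟨⟨U.1 ⊓ U'.1, hne, IsConstructible.dim_open (X.ptSub x).mem ‹_› _ hne⟩,
      inf_le_left (b := U'.1), inf_le_right (a := U.1)⟩⟩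
  infer_instance

section

variable {P : X.scheme.Opens → Prop}

theorem ocolimι_res {U U' : Idx X P} (h : U' ≤ U) :
    (T.H i n).map ((idxDiag X P).map (homOfLE h)).op ≫ T.ocolimι X P i n U' = T.ocolimι X P i n U :=
  colimit.w ((idxDiag X P).op ⋙ T.H i n) (homOfLE h).op

theorem ι_pull {U U' : Idx X P} (h : U' ≤ U) (b : T.gp (X.res U.1) M i n) :
    ((T.ocolimι X P i n U').app M).hom
        ((T.pull (X.resLE h (U'.2.2.trans U.2.2.symm)) M i n).hom b) =
      ((T.ocolimι X P i n U).app M).hom b :=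
  congrArg (fun f : _ ⟶ _ => (f.app M).hom b) (ocolimι_res T X i n h)

/-- The evaluated colimit cocone. -/
noncomputable def evalIsColimit :
    IsColimit (((evaluation A.Cat (ModuleCat.{u} R)).obj M).mapCocone
      (colimit.cocone ((idxDiag X P).op ⋙ T.H i n))) :=
  isColimitOfPreserves _ (colimit.isColimit _)

variable [hP : IsFiltered (Idx X P)ᵒᵖ]
include hP

theorem exists_rep (a : (T.ocolim X P i n).obj M) :
    ∃ (U : Idx X P) (b : T.gp (X.res U.1) M i n), ((T.ocolimι X P i n U).app M).hom b = a := by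
  obtain ⟨U, b, hb⟩ := Concrete.isColimit_exists_rep _ (evalIsColimit T X M i n) a
  exact ⟨U.unop, b, hb⟩

theorem exists_le_of_rep_zero {U : Idx X P} {b : T.gp (X.res U.1) M i n}
    (hb : ((T.ocolimι X P i n U).app M).hom b = 0) :
    ∃ (U' : Idx X P) (h : U' ≤ U), (T.pull (X.resLE h (U'.2.2.trans U.2.2.symm)) M i n).hom b = 0 := by
  obtain ⟨U', f, g, hfg⟩ := (Concrete.isColimit_rep_eq_iff_exists _ (evalIsColimit T X M i n)
    (i := op U) (j := op U) b 0).1 (hb.trans (map_zero _).symm)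
  refine ⟨U'.unop, leOfHom f.unop, ?_⟩
  exact hfg.trans (map_zero _)

end

section Pull

variable {X} {X' X'' : Obj V}

theorem pull_comp (f : X' ⟶ X) (g : X'' ⟶ X') (a : T.gp X M i n) :
    (T.pull g M i n).hom ((T.pull f M i n).hom a) = (T.pull (g ≫ f) M i n).hom a := by
  simp [PreTheory.pull]

theorem pull_id (a : T.gp X M i n) : (T.pull (𝟙 X) M i n).hom a = a := by
  simp [PreTheory.pull]

end Pull

theorem resLE_comp {U U' U'' : X.scheme.Opens} (h : U ≤ U') (h' : U' ≤ U'')
    (hd : WeilCoh.dim (U : Scheme.{u}) = WeilCoh.dim (U' : Scheme.{u}))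
    (hd' : WeilCoh.dim (U' : Scheme.{u}) = WeilCoh.dim (U'' : Scheme.{u})) :
    X.resLE h hd ≫ X.resLE h' hd' = X.resLE (h.trans h') (hd.trans hd') :=
  Hom.ext (X.scheme.homOfLE_homOfLE h h')

theorem resLE_self {U : X.scheme.Opens} (h : U ≤ U)
    (hd : WeilCoh.dim (U : Scheme.{u}) = WeilCoh.dim (U : Scheme.{u})) : X.resLE h hd = 𝟙 _ :=
  Hom.ext (Scheme.homOfLE_rfl _ _)

end Groth.Agent.BMLib
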