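import Groth.Agent.Lib.BMCoh.Top
import Groth.Agent.Lib.RedSep.Basic

/-!
Locally closed reduced pieces of an object, and the decompositions they define.
-/

set_option autoImplicit false

universe u

open AlgebraicGeometry CategoryTheory TopologicalSpace Topology Set

namespace Groth.Agent.BMLib

open BMCoh

variable {V : ObjectProperty Scheme.{u}} [IsConstructible V] (X : Obj V)

theorem finDim : topologicalKrullDim X.scheme < ⊤ := IsConstructible.finiteDim X.mem

instance : IsNoetherian X.scheme := IsConstructible.isNoetherian X.mem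

instance : NoetherianSpace X.scheme := inferInstance

/-- The reduced closed subscheme on a closed set. -/
noncomputable abbrev sub (K : Closeds X.scheme) : Obj V :=
  ⟨(Scheme.IdealSheafData.vanishingIdeal K).subscheme,
    IsConstructible.of_isClosedImmersion (Scheme.IdealSheafData.vanishingIdeal K).subschemeι
      (h := (inferInstance : IsClosedImmersion (Scheme.IdealSheafData.vanishingIdeal K).subschemeι)) X.mem⟩

/-- The inclusion of the reduced closed subscheme. -/
noncomputable abbrev subι (K : Closeds X.scheme) : (sub X K).scheme ⟶ X.scheme :=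
  (Scheme.IdealSheafData.vanishingIdeal K).subschemeι

/-- The closure of a point as a closed set. -/
abbrev pt (x : X.scheme) : Closeds X.scheme := ⟨closure {x}, isClosed_closure⟩

instance (K : Closeds X.scheme) : IsReduced (sub X K).scheme :=
  RedSepLib.isReduced_vanishingIdeal_subscheme K

theorem range_subι (K : Closeds X.scheme) : range (subι X K) = K := by
  rw [Scheme.IdealSheafData.range_subschemeι, Scheme.IdealSheafData.coe_support_vanishingIdeal]

/-- The piece of a closed set inside an open. -/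
noncomputable abbrev pc (K : Closeds X.scheme) (Y : X.scheme.Opens) : Obj V :=
  (sub X K).res (subι X K ⁻¹ᵁ Y)

/-- The closed immersion of a piece into the open. -/
noncomputable abbrev pcι (K : Closeds X.scheme) (Y : X.scheme.Opens) :
    (pc X K Y).scheme ⟶ (X.res Y).scheme := subι X K ∣_ Y

/-- The immersion of a piece into the object. -/
noncomputable abbrev pcX (K : Closeds X.scheme) (Y : X.scheme.Opens) :
    (pc X K Y).scheme ⟶ X.scheme := (subι X K ⁻¹ᵁ Y).ι ≫ subι X K

instance (K : Closeds X.scheme) (Y : X.scheme.Opens) : IsClosedImmersion (pcι X K Y) :=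
  MorphismProperty.of_isPullback (isPullback_morphismRestrict (subι X K) Y).flip inferInstance

@[reassoc]
theorem pcι_ι (K : Closeds X.scheme) (Y : X.scheme.Opens) : pcι X K Y ≫ Y.ι = pcX X K Y :=
  morphismRestrict_ι _ _

theorem range_pcX (K : Closeds X.scheme) (Y : X.scheme.Opens) :
    range (pcX X K Y) = (K : Set X.scheme) ∩ Y := by
  rw [Scheme.Hom.comp_base, TopCat.coe_comp, Set.range_comp, Scheme.Opens.range_ι]
  change subι X K '' (subι X K ⁻¹' (Y : Set X.scheme)) = _
  rw [Set.image_preimage_eq_range_inter, range_subι]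

instance (K : Closeds X.scheme) (Y : X.scheme.Opens) : IsReduced (pc X K Y).scheme :=
  isReduced_of_isOpenImmersion (subι X K ⁻¹ᵁ Y).ι

theorem exists_pcLift {W : Scheme.{u}} [IsReduced W] (f : W ⟶ X.scheme) (K : Closeds X.scheme)
    (Y : X.scheme.Opens) (h : range f ⊆ (K : Set X.scheme) ∩ Y) :
    ∃ g : W ⟶ (pc X K Y).scheme, g ≫ pcX X K Y = f := by
  obtain ⟨g, hg⟩ := RedSepLib.exists_lift_of_range_subset f (subι X K)
    (by rw [range_subι]; exact h.trans inter_subset_left)
  have hr : range g ⊆ range (subι X K ⁻¹ᵁ Y).ι := by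
    rw [Scheme.Opens.range_ι]
    rintro _ ⟨w, rfl⟩
    have := (h ⟨w, rfl⟩).2
    rw [← hg] at this
    exact this
  exact ⟨IsOpenImmersion.lift _ g hr, by rw [IsOpenImmersion.lift_fac_assoc, hg]⟩

theorem range_eq_preimage_range_comp {W Z T : Scheme.{u}} (g : W ⟶ Z) (f : Z ⟶ T)
    (hf : Function.Injective f) : range g = f ⁻¹' range (g ≫ f) := by
  rw [Scheme.Hom.comp_base, TopCat.coe_comp, Set.range_comp, Set.preimage_image_eq _ hf]

/-- The map between pieces over the object. -/
noncomputable def pcMap {K K' : Closeds X.scheme} {Y Y' : X.scheme.Opens}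
    (h : (K : Set X.scheme) ∩ Y ⊆ (K' : Set X.scheme) ∩ Y') :
    (pc X K Y).scheme ⟶ (pc X K' Y').scheme :=
  (exists_pcLift X (pcX X K Y) K' Y' ((range_pcX X K Y).trans_subset h)).choose

@[reassoc]
theorem pcMap_pcX {K K' : Closeds X.scheme} {Y Y' : X.scheme.Opens}
    (h : (K : Set X.scheme) ∩ Y ⊆ (K' : Set X.scheme) ∩ Y') :
    pcMap X h ≫ pcX X K' Y' = pcX X K Y :=
  (exists_pcLift X (pcX X K Y) K' Y' ((range_pcX X K Y).trans_subset h)).choose_spec

theorem range_pcMap {K K' : Closeds X.scheme} {Y Y' : X.scheme.Opens}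
    (h : (K : Set X.scheme) ∩ Y ⊆ (K' : Set X.scheme) ∩ Y') :
    range (pcMap X h) = pcX X K' Y' ⁻¹' ((K : Set X.scheme) ∩ Y) := by
  rw [← range_pcX X K Y, range_eq_preimage_range_comp (pcMap X h) (pcX X K' Y')
    (pcX X K' Y').isEmbedding.injective, pcMap_pcX]

theorem pcX_inj {W : Scheme.{u}} {K : Closeds X.scheme} {Y : X.scheme.Opens}
    {g g' : W ⟶ (pc X K Y).scheme} (h : g ≫ pcX X K Y = g' ≫ pcX X K Y) : g = g' :=
  (cancel_mono (pcX X K Y)).1 h

theorem pcMap_comp {K K' K'' : Closeds X.scheme} {Y Y' Y'' : X.scheme.Opens}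
    (h : (K : Set X.scheme) ∩ Y ⊆ (K' : Set X.scheme) ∩ Y')
    (h' : (K' : Set X.scheme) ∩ Y' ⊆ (K'' : Set X.scheme) ∩ Y'') :
    pcMap X h ≫ pcMap X h' = pcMap X (h.trans h') :=
  pcX_inj X (by rw [Category.assoc, pcMap_pcX, pcMap_pcX, pcMap_pcX])

theorem pcMap_self {K : Closeds X.scheme} {Y : X.scheme.Opens}
    (h : (K : Set X.scheme) ∩ Y ⊆ (K : Set X.scheme) ∩ Y) : pcMap X h = 𝟙 _ :=
  pcX_inj X (by rw [pcMap_pcX, Category.id_comp])

theorem pcMap_eq_homOfLE {K : Closeds X.scheme} {Y Y' : X.scheme.Opens} (hY : Y ≤ Y') :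
    pcMap X (K := K) (K' := K) (Y := Y) (Y' := Y') (inter_subset_inter_right _ hY) =
      (sub X K).scheme.homOfLE ((subι X K).preimage_mono hY) :=
  pcX_inj X (by rw [pcMap_pcX, Scheme.homOfLE_ι_assoc])

theorem isOpenImmersion_pcMap {K K' : Closeds X.scheme} {Y Y' : X.scheme.Opens}
    (h : (K : Set X.scheme) ∩ Y ⊆ (K' : Set X.scheme) ∩ Y') (O : X.scheme.Opens)
    (hO : (K : Set X.scheme) ∩ Y = (K' : Set X.scheme) ∩ Y' ∩ O) : IsOpenImmersion (pcMap X h) := by
  have h₁ : (K : Set X.scheme) ∩ Y ⊆ (K' : Set X.scheme) ∩ (Y' ⊓ O : X.scheme.Opens) := by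
    rw [hO, Set.inter_assoc]; rfl
  have h₂ : (K' : Set X.scheme) ∩ (Y' ⊓ O : X.scheme.Opens) ⊆ (K : Set X.scheme) ∩ Y := by
    rw [hO, Set.inter_assoc]; rfl
  have : IsIso (pcMap X h₁) :=
    ⟨pcMap X h₂, by rw [pcMap_comp, pcMap_self], by rw [pcMap_comp, pcMap_self]⟩
  have he : pcMap X h = pcMap X h₁ ≫
      (sub X K').scheme.homOfLE ((subι X K').preimage_mono (inf_le_left : Y' ⊓ O ≤ Y')) := by
    rw [← pcMap_eq_homOfLE X (inf_le_left : Y' ⊓ O ≤ Y'), pcMap_comp]
  rw [he]
  infer_instance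

theorem isClosedImmersion_pcMap {K K' : Closeds X.scheme} {Y : X.scheme.Opens}
    (h : (K : Set X.scheme) ∩ Y ⊆ (K' : Set X.scheme) ∩ Y) : IsClosedImmersion (pcMap X h) := by
  have : pcMap X h ≫ pcι X K' Y = pcι X K Y := by
    rw [← cancel_mono Y.ι, Category.assoc, pcι_ι, pcι_ι, pcMap_pcX]
  have : IsClosedImmersion (pcMap X h ≫ pcι X K' Y) := this ▸ inferInstance
  exact IsClosedImmersion.of_comp (pcMap X h) (pcι X K' Y)

theorem dim_pc (K : Closeds X.scheme) (Y : X.scheme.Opens) :
    WeilCoh.dim (pc X K Y).scheme = WeilCoh.natDim ((K : Set X.scheme) ∩ Y : Set X.scheme) := by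
  rw [← range_pcX, natDim_range (pcX X K Y).isEmbedding]
  rfl

theorem dim_sub (K : Closeds X.scheme) :
    WeilCoh.dim (sub X K).scheme = WeilCoh.natDim (K : Set X.scheme) := by
  rw [← range_subι X K, natDim_range (subι X K).isEmbedding]
  rfl

theorem dim_ptSub (x : X.scheme) : WeilCoh.dim (X.ptSub x).scheme = WeilCoh.pdim X.scheme x :=
  dim_sub X (pt X x)

theorem irreducibleSpace_sub_pt (x : X.scheme) : IrreducibleSpace (sub X (pt X x)).scheme := by
  have hirr : IsIrreducible (closure {x} : Set X.scheme) := isIrreducible_singleton.closure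
  have e := (subι X (pt X x)).isEmbedding
  haveI := isIrreducible_iff_irreducibleSpace.1 ((range_subι X (pt X x)).symm ▸ hirr :
    IsIrreducible (range (subι X (pt X x))))
  exact e.toHomeomorph.symm.surjective.irreducibleSpace e.toHomeomorph.symm.continuous

theorem nonempty_pt_inter {x : X.scheme} {Y : X.scheme.Opens}
    (h : ((closure {x} : Set X.scheme) ∩ Y).Nonempty) : x ∈ Y := by
  obtain ⟨y, hy, hyY⟩ := h
  exact (specializes_iff_mem_closure.2 hy).mem_open Y.isOpen hyY

theorem dim_pc_pt {x : X.scheme} {Y : X.scheme.Opens} (hx : x ∈ Y) :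
    WeilCoh.dim (pc X (pt X x) Y).scheme = WeilCoh.pdim X.scheme x := by
  have := irreducibleSpace_sub_pt X x
  obtain ⟨z, hz⟩ : x ∈ range (subι X (pt X x)) := (range_subι X (pt X x)).symm.subset (subset_closure rfl)
  refine Eq.trans (IsConstructible.dim_open (sub X (pt X x)).mem this (subι X (pt X x) ⁻¹ᵁ Y)
    ⟨z, show subι X (pt X x) z ∈ Y by rw [hz]; exact hx⟩) (dim_ptSub X x)

/-- A member of the index family of a point cut out by an open of the object. -/
noncomputable abbrev pcIdx {x : X.scheme} {Y : X.scheme.Opens} (hx : x ∈ Y) : ptIdx X x :=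
  ⟨subι X (pt X x) ⁻¹ᵁ Y, by
    obtain ⟨z, hz⟩ : x ∈ range (subι X (pt X x)) := (range_subι X (pt X x)).symm.subset (subset_closure rfl)
    exact ⟨z, show subι X (pt X x) z ∈ Y by rw [hz]; exact hx⟩,
    (dim_pc_pt X hx).trans (dim_ptSub X x).symm⟩

theorem dim_open_le (U : X.scheme.Opens) : WeilCoh.dim (U : Scheme.{u}) ≤ WeilCoh.dim X.scheme :=
  natDim_le_of_inducing (finDim X) U.ι.isEmbedding.isInducing

theorem dim_open_of_containsFj {j : ℕ} {U : X.scheme.Opens} (hU : ContainsFj X j U) :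
    WeilCoh.dim (U : Scheme.{u}) = WeilCoh.dim X.scheme := by
  refine le_antisymm (dim_open_le X U) ?_
  rcases isEmpty_or_nonempty X.scheme with h | h
  · have : IsEmpty (IrreducibleCloseds X.scheme) := ⟨fun Z => h.elim Z.isIrreducible.nonempty.choose⟩
    have h0 : topologicalKrullDim X.scheme = ⊥ := Order.krullDim_eq_bot
    unfold WeilCoh.dim WeilCoh.natDim
    rw [h0]
    simp
  · obtain ⟨x, hx⟩ := pdim_eq_zero_or_series (finDim X) (le_refl (WeilCoh.dim X.scheme))
    have hxU : x ∈ U := hU x (by unfold WeilCoh.codim; omega)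
    rw [← hx, ← dim_pc_pt X hxU]
    exact natDim_le_of_inducing (finDim (X.res U)) (pcι X (pt X x) U).isEmbedding.isInducing

/-- An open containing the points of codimension at most `j`, as an index. -/
noncomputable abbrev fjIdx {j : ℕ} (U : X.scheme.Opens) (hU : ContainsFj X j U) :
    Idx X (ContainsFj X j) := ⟨U, hU, dim_open_of_containsFj X hU⟩

theorem pdim_res (U : X.scheme.Opens) (y : (X.res U).scheme) :
    WeilCoh.pdim (X.res U).scheme y = WeilCoh.pdim X.scheme (U.ι y) := by
  have hy : U.ι y ∈ U := U.range_ι.subset ⟨y, rfl⟩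
  rw [← dim_pc_pt X hy, dim_pc]
  have he : U.ι '' closure {y} = closure {U.ι y} ∩ (U : Set X.scheme) := by
    rw [← U.range_ι, ← Set.image_preimage_eq_inter_range, U.ι.isEmbedding.closure_eq_preimage_closure_image,
      Set.image_singleton]
  change _ = WeilCoh.natDim (closure {U.ι y} ∩ (U : Set X.scheme) : Set X.scheme)
  rw [← he, Set.image_eq_range, WeilCoh.pdim]
  exact (natDim_range (U.ι.isEmbedding.comp IsEmbedding.subtypeVal)).symm

/-- The decomposition of an open by a piece. -/
noncomputable def pcDecomp (K : Closeds X.scheme) (Y U : X.scheme.Opens) (hle : U ≤ Y)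
    (hd : WeilCoh.dim (U : Scheme.{u}) = WeilCoh.dim (Y : Scheme.{u}))
    (hUK : (U : Set X.scheme) = (Y : Set X.scheme) \ K) : Decomp (X.res Y) where
  Z := pc X K Y
  U := X.res U
  i := pcι X K Y
  closedImm := inferInstance
  j := X.resLE hle hd
  range_eq := by
    apply Y.ι.isEmbedding.injective.image_injective
    rw [Set.image_compl_eq_range_sdiff_image Y.ι.isEmbedding.injective, ← Set.range_comp, ← Set.range_comp,
      ← TopCat.coe_comp, ← TopCat.coe_comp, ← Scheme.Hom.comp_base, ← Scheme.Hom.comp_base, pcι_ι, range_pcX,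
      Scheme.Opens.range_ι]
    change range (X.scheme.homOfLE hle ≫ Y.ι) = _
    rw [Scheme.homOfLE_ι, Scheme.Opens.range_ι, hUK]
    ext z
    simp only [Set.mem_diff, Set.mem_inter_iff, SetLike.mem_coe]
    tauto

/-- Restricting a piece to a smaller open gives a cartesian square. -/
theorem isPullback_pc {K : Closeds X.scheme} {Y Y' : X.scheme.Opens} (hY : Y ≤ Y') :
    IsPullback ((sub X K).scheme.homOfLE ((subι X K).preimage_mono hY)) (pcι X K Y) (pcι X K Y')
      (X.scheme.homOfLE hY) := by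
  refine (IsOpenImmersion.isPullback (pcι X K Y) _ (X.scheme.homOfLE hY) (pcι X K Y') ?_ ?_).flip
  · rw [← cancel_mono Y'.ι, Category.assoc, pcι_ι, Category.assoc, Scheme.homOfLE_ι, pcι_ι,
      Scheme.homOfLE_ι_assoc]
  · rw [Scheme.opensRange_homOfLE, Scheme.opensRange_homOfLE, ← Scheme.Hom.comp_preimage, pcι_ι]
    rfl

end Groth.Agent.BMLib
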