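import Groth.Agent.Lib.BMCoh.Classes
import Mathlib.AlgebraicGeometry.Morphisms.Finite

/-!
Residue data and push-forward data read on pieces.
-/

set_option autoImplicit false

universe u

open AlgebraicGeometry CategoryTheory CategoryTheory.Limits Opposite TopologicalSpace Set

namespace Groth.Agent.BMLib

open BMCoh

variable {V : ObjectProperty Scheme.{u}} [IsConstructible V] {R : Type u} [CommRing R] {A : Coefs R}
  {T : PreTheory V R A} {X : Obj V} (M : A.Cat)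

attribute [local instance] isFiltered_fj isFiltered_pt

theorem isProper_pcι (K : Closeds X.scheme) (Y : X.scheme.Opens) : IsProper (pcι X K Y) :=
  inferInstance

theorem pushData_ptCls {c : ℕ} (P : T.PushData X c) (x : X.cdPt c) {Y : X.scheme.Opens}
    (h : IsPc X c (pt X x.1) Y) (hY : ContainsFj X c Y) (hx : x.1 ∈ Y) (i n i' n' : ℤ)
    (hi : i' = i + 2 * (c : ℤ)) (hn : n' = n + (c : ℤ)) (b : T.gp (pc X (pt X x.1) Y) M i n) :
    (P.cpt x M i n i' n' hi hn).hom ((ptCls T M hx i n).hom b) =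
      (cls T M hY i' n').hom ((push T M h i n i' n' hi hn).hom b) :=
  haveI := isProper_pcι (pt X x.1) Y
  congrArg (fun f => f.hom b) (P.cpt_spec x M i n i' n' hi hn (fjIdx X Y hY) (pcIdx X hx)
    (pcι X (pt X x.1) Y) (pcι_ι X _ _) (hi.trans (congrArg (fun z : ℤ => i + 2 * z) h.relCodim_eq).symm)
    (hn.trans (congrArg (fun z : ℤ => n + z) h.relCodim_eq).symm))

variable {j : ℕ} {S : Finset (X.cdPt (j + 1))} {Y U : X.scheme.Opens}

theorem resData_cls (Q : T.ResData X j) (hg : Good S Y) {s : X.cdPt (j + 1)} (hs : s ∈ S)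
    (hU : (U : Set X.scheme) = (Y : Set X.scheme) \ cl S) (hUj : ContainsFj X j U) (i n i' n' : ℤ)
    (hi : i' = i + 1 - 2 * ((j : ℤ) + 1)) (hn : n' = n - ((j : ℤ) + 1)) (a : T.gp (X.res U) M i n) :
    (Q.cpt s M i n i' n' hi hn).hom ((cls T M hUj i n).hom a) =
      (ptCls T M (hg.mem s hs) i' n').hom ((T.pull (incl hg hs) M i' n').hom
        ((residue T M (hg.isPc ⟨s, hs⟩) hU (dim_open_of_containsFj X hUj) i n i' n'
          (by rw [hi]; push_cast; ring) (by rw [hn]; push_cast; ring)).hom a)) := by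
  let D := decomp (hg.isPc ⟨s, hs⟩) hU (dim_open_of_containsFj X hUj)
  have hc : D.codim = ((j + 1 : ℕ) : ℤ) := (hg.isPc ⟨s, hs⟩).relCodim_eq
  have h₁ : (incl hg hs).hom ≫ D.i ≫ (X.resι Y hg.dimY).hom =
      (pcIdx X (hg.mem s hs)).1.ι ≫ X.ptSubι s.1 := by
    change (incl hg hs).hom ≫ pcι X (cl S) Y ≫ Y.ι = pcX X (pt X s.1) Y
    rw [← Category.assoc, incl_pcι, pcι_ι]
  have h₂ : (𝟙 (X.res U) : X.res U ⟶ X.res U).hom ≫ D.j.hom ≫ (X.resι Y hg.dimY).hom =
      (fjIdx X U hUj).1.ι := by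
    change 𝟙 _ ≫ X.scheme.homOfLE (show U ≤ Y from hU.trans_subset sdiff_subset) ≫ Y.ι = U.ι
    rw [Category.id_comp, Scheme.homOfLE_ι]
  have h := congrArg (fun f => f.hom a) (Q.cpt_spec s M i n i' n' hi hn (X.resι Y hg.dimY) D
    (pcIdx X (hg.mem s hs)) (incl hg hs) h₁ (fjIdx X U hUj) (𝟙 _) h₂
    (by rw [hc, hi]; push_cast; ring) (by rw [hc, hn]; push_cast; ring))
  simp only [ModuleCat.hom_comp, LinearMap.comp_apply] at h
  exact (congrArg (fun t => (Q.cpt s M i n i' n' hi hn).hom ((cls T M hUj i n).hom t))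
    (pull_id T M i n a)).symm.trans h

theorem containsFj_diff (hY : ContainsFj X j Y) (hU : (U : Set X.scheme) = (Y : Set X.scheme) \ cl S) :
    ContainsFj X j U := fun y hy => hU.symm.subset ⟨hY y hy, fun hy' =>
  absurd ((le_codim_of_mem_cl hy').trans hy) (by omega)⟩

theorem resData_eq_zero (Q : T.ResData X j) (hY : ContainsFj X j Y) (x : X.cdPt (j + 1))
    (hx : x.1 ∈ Y) (i n i' n' : ℤ) (hi : i' = i + 1 - 2 * ((j : ℤ) + 1))
    (hn : n' = n - ((j : ℤ) + 1)) (a : T.gp (X.res Y) M i n) :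
    (Q.cpt x M i n i' n' hi hn).hom ((cls T M hY i n).hom a) = 0 := by
  classical
  have hg : Good ({x} : Finset (X.cdPt (j + 1))) Y :=
    ⟨dim_open_of_containsFj X hY, fun s hs => by rw [Finset.mem_singleton.1 hs]; exact hx,
      fun s hs t ht _ _ _ _ => (Finset.mem_singleton.1 hs).trans (Finset.mem_singleton.1 ht).symm⟩
  let U₁ : X.scheme.Opens := Y ⊓ ⟨(cl {x} : Set X.scheme)ᶜ, (cl {x}).isClosed.isOpen_compl⟩
  have hU₁ : (U₁ : Set X.scheme) = (Y : Set X.scheme) \ cl {x} := rfl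
  have hU₁j := containsFj_diff hY hU₁
  rw [← cls_pull T M hY hU₁j inf_le_left
    ((dim_open_of_containsFj X hU₁j).trans (dim_open_of_containsFj X hY).symm),
    resData_cls M Q hg (Finset.mem_singleton_self x) hU₁ hU₁j]
  rw [residue_pull_eq_zero T M (hg.isPc ⟨x, Finset.mem_singleton_self x⟩) hU₁
    (dim_open_of_containsFj X hU₁j), map_zero, map_zero]

variable (T)

theorem ptCls_incl_pull {Y' : X.scheme.Opens} (hg : Good S Y) (hg' : Good S Y') (hle : Y' ≤ Y)
    {s : X.cdPt (j + 1)} (hs : s ∈ S) (i n : ℤ) (z : T.gp (pc X (cl S) Y) M i n) :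
    (ptCls T M (hg'.mem s hs) i n).hom ((T.pull (incl hg' hs) M i n).hom
      ((T.pull (pcHom (hg'.isPc ⟨s, hs⟩) (hg.isPc ⟨s, hs⟩) hle) M i n).hom z)) =
      (ptCls T M (hg.mem s hs) i n).hom ((T.pull (incl hg hs) M i n).hom z) := by
  rw [pull_comp, ← pcHom_incl hg hg' hle hs, ← pull_comp, ptCls_pull]

theorem exists_shrink_eq_zero {c : ℕ} {S : Finset (X.cdPt c)} {Y : X.scheme.Opens} (hg : Good S Y)
    (hY : ContainsFj X c Y) (hS : S.Nonempty) (i n : ℤ) (z : T.gp (pc X (cl S) Y) M i n)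
    (hz : ∀ s : S, (ptCls T M (hY s.1.1 s.1.2.le) i n).hom ((T.pull (incl hg s.2) M i n).hom z) = 0) :
    ∃ (Y' : X.scheme.Opens) (hle : Y' ≤ Y) (hY' : ContainsFj X c Y'),
      (T.pull (pcHom ((hg.of_le hle hY').isPc hS) (hg.isPc hS) hle) M i n).hom z = 0 := by
  choose Ys hles hYs hps hzs using fun s : S =>
    exists_pull_ptCls_eq_zero T M s.1 (hg.isPc_pt s.2) hY i n _ (hz s)
  let Y' : X.scheme.Opens := ⟨(Y : Set X.scheme) ∩ ⋂ s : S, (Ys s : Set X.scheme),
    Y.isOpen.inter (isOpen_iInter_of_finite fun s => (Ys s).isOpen)⟩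
  have hle : Y' ≤ Y := fun y hy => hy.1
  have hY' : ContainsFj X c Y' := fun y hy => ⟨hY y hy, mem_iInter.2 fun s => hYs s y hy⟩
  refine ⟨Y', hle, hY', (hg.of_le hle hY').eq_zero T M i n _ fun s => ?_⟩
  have hle' : Y' ≤ Ys s := fun y hy => mem_iInter.1 hy.2 s
  rw [pull_comp, ← pcHom_incl hg (hg.of_le hle hY') hle s.2, ← pull_comp]
  have e : pcHom ((hg.of_le hle hY').isPc_pt s.2) (hg.isPc_pt s.2) hle =
      pcHom ((hg.of_le hle hY').isPc_pt s.2) (hps s) hle' ≫ pcHom (hps s) (hg.isPc_pt s.2) (hles s) :=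
    Hom.ext ((sub X (pt X s.1.1)).scheme.homOfLE_homOfLE
      ((subι X (pt X s.1.1)).preimage_mono hle') ((subι X (pt X s.1.1)).preimage_mono (hles s))).symm
  rw [e, ← pull_comp, hzs s, map_zero]

end Groth.Agent.BMLib
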