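import Groth.Agent.Lib.BMCoh.Residue

/-!
Residues to pieces of a proper push-forward, for reduced pieces with the same support as the
inverse image.
-/

set_option autoImplicit false

universe u

open AlgebraicGeometry CategoryTheory CategoryTheory.Limits Opposite TopologicalSpace Set

namespace Groth.Agent.BMLib

open BMCoh

variable {V : ObjectProperty Scheme.{u}} [IsConstructible V] {R : Type u} [CommRing R] {A : Coefs R}

theorem dim_eq_of_surjective_closedImmersion {W Z : Scheme.{u}} (k : W ⟶ Z) [IsClosedImmersion k]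
    [Surjective k] : WeilCoh.dim W = WeilCoh.dim Z := by
  unfold WeilCoh.dim WeilCoh.natDim
  rw [IsHomeomorph.topologicalKrullDim_eq _
    (k.isEmbedding.toHomeomorphOfSurjective k.surjective).isHomeomorph]

/-- Residue after push-forward is push-forward after residue. -/
theorem residue_push_eq (T : PreTheory V R A)
    (hred : ∀ (S : Obj V) (D D'' : Decomp S) (gU : D''.U ⟶ D.U)
      (k : D''.Z.scheme ⟶ D.Z.scheme) [IsClosedImmersion k] [AlgebraicGeometry.Surjective k],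
      gU ≫ D.j = D''.j → k ≫ D.i = D''.i →
      ∀ (M : A.Cat) (i n i' n' : ℤ) (hi : i' = i + 1 - 2 * D.codim) (hn : n' = n - D.codim)
        (hi'' : i' = i + 1 - 2 * D''.codim) (hn'' : n' = n - D''.codim)
        (hk : i' = i' + 2 * relCodim D''.Z.scheme D.Z.scheme)
        (hk' : n' = n' + relCodim D''.Z.scheme D.Z.scheme),
      T.pull gU M i n ≫ T.res D'' M i n i' n' hi'' hn'' ≫ T.push k M i' n' i' n' hk hk' =
        T.res D M i n i' n' hi hn)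
    {X Y : Obj V} (φ : Y.scheme ⟶ X.scheme) [IsProper φ] (M : A.Cat)
    {c c' : ℕ} {K : Closeds X.scheme} {K' : Closeds Y.scheme} {Y₀ U : X.scheme.Opens}
    (hX : IsPc X c K Y₀) (hY : IsPc Y c' K' (φ ⁻¹ᵁ Y₀))
    (hK : (K' : Set Y.scheme) ∩ (φ ⁻¹ᵁ Y₀ : Set Y.scheme) =
      φ ⁻¹' (K : Set X.scheme) ∩ (φ ⁻¹ᵁ Y₀ : Set Y.scheme))
    (hU : (U : Set X.scheme) = (Y₀ : Set X.scheme) \ K)
    (hU' : ((φ ⁻¹ᵁ U : Y.scheme.Opens) : Set Y.scheme) = (φ ⁻¹ᵁ Y₀ : Set Y.scheme) \ K')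
    (hd : WeilCoh.dim (U : Scheme.{u}) = WeilCoh.dim X.scheme)
    (hd' : WeilCoh.dim ((φ ⁻¹ᵁ U : Y.scheme.Opens) : Scheme.{u}) = WeilCoh.dim Y.scheme)
    (hdim : WeilCoh.dim (pc Y K' (φ ⁻¹ᵁ Y₀)).scheme = WeilCoh.dim (pc X K Y₀).scheme)
    (h : (pc Y K' (φ ⁻¹ᵁ Y₀)).scheme ⟶ (pc X K Y₀).scheme) [IsProper h]
    (hh : h ≫ pcX X K Y₀ = pcX Y K' (φ ⁻¹ᵁ Y₀) ≫ φ)
    [IsProper (φ ∣_ U)]
    (i n i₁ n₁ i₂ n₂ : ℤ)
    (h₁ : i₁ = i + 2 * relCodim (Y.res (φ ⁻¹ᵁ U)).scheme (X.res U).scheme)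
    (h₁' : n₁ = n + relCodim (Y.res (φ ⁻¹ᵁ U)).scheme (X.res U).scheme)
    (h₂ : i₂ = i₁ + 1 - 2 * (c : ℤ)) (h₂' : n₂ = n₁ - (c : ℤ))
    (h₃ : i₂ = i + 1 - 2 * (c' : ℤ)) (h₃' : n₂ = n - (c' : ℤ))
    (h₄ : i₂ = i₂ + 2 * relCodim (pc Y K' (φ ⁻¹ᵁ Y₀)).scheme (pc X K Y₀).scheme)
    (h₄' : n₂ = n₂ + relCodim (pc Y K' (φ ⁻¹ᵁ Y₀)).scheme (pc X K Y₀).scheme)
    (a : T.gp (Y.res (φ ⁻¹ᵁ U)) M i n) :
    (residue T M hX hU hd i₁ n₁ i₂ n₂ h₂ h₂').hom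
        ((T.push (X := Y.res (φ ⁻¹ᵁ U)) (Y := X.res U) (φ ∣_ U) M i n i₁ n₁ h₁ h₁').hom a) =
      (T.push h M i₂ n₂ i₂ n₂ h₄ h₄').hom ((residue T M hY hU' hd' i n i₂ n₂ h₃ h₃').hom a) := by
  haveI : IsProper (φ ∣_ Y₀) :=
    MorphismProperty.of_isPullback (isPullback_morphismRestrict φ Y₀).flip inferInstance
  haveI hfst : IsClosedImmersion (pullback.fst (φ ∣_ Y₀) (pcι X K Y₀)) :=
    MorphismProperty.of_isPullback (IsPullback.of_hasPullback (φ ∣_ Y₀) (pcι X K Y₀)).flip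
      (inferInstance : IsClosedImmersion (pcι X K Y₀))
  haveI : IsProper (pullback.snd (φ ∣_ Y₀) (pcι X K Y₀)) :=
    MorphismProperty.of_isPullback (IsPullback.of_hasPullback (φ ∣_ Y₀) (pcι X K Y₀))
      (inferInstance : IsProper (φ ∣_ Y₀))
  let Zp : Obj V := ⟨pullback (φ ∣_ Y₀) (pcι X K Y₀),
    IsConstructible.of_isClosedImmersion (pullback.fst (φ ∣_ Y₀) (pcι X K Y₀))
      (Y.res (φ ⁻¹ᵁ Y₀)).mem⟩
  let D'' : Decomp (Y.res (φ ⁻¹ᵁ Y₀)) := decomp hY hU' hd'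
  have hcond : pcι Y K' (φ ⁻¹ᵁ Y₀) ≫ (φ ∣_ Y₀) = h ≫ pcι X K Y₀ := by
    rw [← cancel_mono Y₀.ι, Category.assoc, Category.assoc, pcι_ι, hh, morphismRestrict_ι,
      pcι_ι_assoc, Category.assoc]
  let k : (pc Y K' (φ ⁻¹ᵁ Y₀)).scheme ⟶ Zp.scheme := pullback.lift (pcι Y K' (φ ⁻¹ᵁ Y₀)) h hcond
  have hk : k ≫ pullback.fst _ _ = pcι Y K' (φ ⁻¹ᵁ Y₀) := pullback.lift_fst _ _ _
  haveI hkc : IsClosedImmersion k := by
    haveI : IsClosedImmersion (k ≫ pullback.fst (φ ∣_ Y₀) (pcι X K Y₀)) := hk ▸ inferInstance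
    exact IsClosedImmersion.of_comp k (pullback.fst (φ ∣_ Y₀) (pcι X K Y₀))
  have hrange : range (pullback.fst (φ ∣_ Y₀) (pcι X K Y₀)) = range (pcι Y K' (φ ⁻¹ᵁ Y₀)) := by
    rw [Scheme.Pullback.range_fst]
    apply (φ ⁻¹ᵁ Y₀).ι.isEmbedding.injective.image_injective
    rw [← Set.range_comp, ← TopCat.coe_comp, ← Scheme.Hom.comp_base, pcι_ι, range_pcX, hK,
      show range (pcι X K Y₀) = Y₀.ι ⁻¹' range (pcι X K Y₀ ≫ Y₀.ι) from
        range_eq_preimage_range_comp _ _ Y₀.ι.isEmbedding.injective,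
      pcι_ι, range_pcX, ← Set.preimage_comp, ← TopCat.coe_comp, ← Scheme.Hom.comp_base,
      morphismRestrict_ι]
    change (φ ⁻¹ᵁ Y₀).ι '' ((φ ⁻¹ᵁ Y₀).ι ⁻¹' (φ ⁻¹' ((K : Set X.scheme) ∩ Y₀))) = _
    rw [Set.image_preimage_eq_inter_range, Scheme.Opens.range_ι, Set.preimage_inter]
    ext z
    simp
  haveI hks : Surjective k := ⟨fun z => by
    obtain ⟨w, hw⟩ := hrange.subset ⟨z, rfl⟩
    refine ⟨w, (pullback.fst (φ ∣_ Y₀) (pcι X K Y₀)).isEmbedding.injective ?_⟩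
    rw [← Scheme.Hom.comp_apply, hk]
    exact hw⟩
  have hdk : WeilCoh.dim (pc Y K' (φ ⁻¹ᵁ Y₀)).scheme = WeilCoh.dim Zp.scheme :=
    dim_eq_of_surjective_closedImmersion k
  let D' : Decomp (Y.res (φ ⁻¹ᵁ Y₀)) :=
    { Z := Zp, U := Y.res (φ ⁻¹ᵁ U), i := pullback.fst _ _, closedImm := hfst, j := D''.j
      range_eq := D''.range_eq.trans (congrArg compl hrange.symm) }
  let D : Decomp (X.res Y₀) := decomp hX hU hd
  have hcD : D.codim = c := hX.relCodim_eq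
  have hc'' : D''.codim = c' := hY.relCodim_eq
  have hc' : D'.codim = c' := by
    rw [← hc'']
    change (_ : ℤ) - WeilCoh.dim Zp.scheme = _ - WeilCoh.dim (pc Y K' (φ ⁻¹ᵁ Y₀)).scheme
    rw [hdk]
  have hkc0 : relCodim D''.Z.scheme D'.Z.scheme = 0 := by
    change (WeilCoh.dim Zp.scheme : ℤ) - WeilCoh.dim (pc Y K' (φ ⁻¹ᵁ Y₀)).scheme = 0
    omega
  have hi_k : ∀ m : ℤ, m = m + 2 * relCodim D''.Z.scheme D'.Z.scheme := fun m => by omega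
  have hn_k : ∀ m : ℤ, m = m + relCodim D''.Z.scheme D'.Z.scheme := fun m => by omega
  have hsq : IsPullback D'.j.hom (φ ∣_ U) (φ ∣_ Y₀) D.j.hom := by
    have hle : U ≤ Y₀ := hU.trans_subset sdiff_subset
    change IsPullback (Y.scheme.homOfLE (φ.preimage_mono hle)) (φ ∣_ U) (φ ∣_ Y₀)
      (X.scheme.homOfLE hle)
    refine (IsOpenImmersion.isPullback (φ ∣_ U) (Y.scheme.homOfLE (φ.preimage_mono hle))
      (X.scheme.homOfLE hle) (φ ∣_ Y₀) ?_ ?_).flip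
    · rw [← cancel_mono Y₀.ι, Category.assoc, morphismRestrict_ι, Scheme.homOfLE_ι_assoc,
        Category.assoc, Scheme.homOfLE_ι, morphismRestrict_ι]
    · rw [Scheme.opensRange_homOfLE, Scheme.opensRange_homOfLE, ← Scheme.Hom.comp_preimage,
        morphismRestrict_ι]
      rfl
  let fZ : D'.Z.scheme ⟶ D.Z.scheme := pullback.snd (φ ∣_ Y₀) (pcι X K Y₀)
  haveI hfZ : IsProper fZ :=
    MorphismProperty.of_isPullback (IsPullback.of_hasPullback (φ ∣_ Y₀) (pcι X K Y₀))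
      (inferInstance : IsProper (φ ∣_ Y₀))
  let k' : D''.Z.scheme ⟶ D'.Z.scheme := k
  haveI : IsClosedImmersion k' := hkc
  haveI : Surjective k' := hks
  let fU : D'.U.scheme ⟶ D.U.scheme := φ ∣_ U
  haveI hfU : IsProper fU := ‹IsProper (φ ∣_ U)›
  have key := T.res_push D D' (φ ∣_ Y₀) fZ fU (IsPullback.of_hasPullback _ _)
    hsq M i n i₂ n₂ i₁ n₁ i₂ n₂ (by rw [hc']; exact h₃) (by rw [hc']; exact h₃') h₁ h₁'
    (by change i₂ = i₂ + 2 * ((WeilCoh.dim (pc X K Y₀).scheme : ℤ) - WeilCoh.dim Zp.scheme); omega)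
    (by change n₂ = n₂ + ((WeilCoh.dim (pc X K Y₀).scheme : ℤ) - WeilCoh.dim Zp.scheme); omega)
    (by rw [hcD]; exact h₂) (by rw [hcD]; exact h₂')
  have key₂ := hred (Y.res (φ ⁻¹ᵁ Y₀)) D' D'' (𝟙 _) k' (Category.id_comp _) hk M i n i₂ n₂
    (by rw [hc']; exact h₃) (by rw [hc']; exact h₃') (by rw [hc'']; exact h₃) (by rw [hc'']; exact h₃')
    (hi_k i₂) (hn_k n₂)
  refine (congrArg (fun f => f.hom a) key).symm.trans ?_
  rw [← key₂]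
  have hpc := T.push_comp k' fZ M i₂ n₂ i₂ n₂ i₂ n₂
    (hi_k i₂) (hn_k n₂)
    (by change i₂ = i₂ + 2 * ((WeilCoh.dim (pc X K Y₀).scheme : ℤ) - WeilCoh.dim Zp.scheme); omega)
    (by change n₂ = n₂ + ((WeilCoh.dim (pc X K Y₀).scheme : ℤ) - WeilCoh.dim Zp.scheme); omega)
    h₄ h₄'
  have hsnd : k' ≫ fZ = h := pullback.lift_snd _ _ _
  simp only [hsnd] at hpc
  simp only [ModuleCat.hom_comp, LinearMap.comp_apply]
  refine (congrArg (fun f => f.hom ((T.res D'' M i n i₂ n₂ (by rw [hc'']; exact h₃)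
    (by rw [hc'']; exact h₃')).hom ((T.pull (𝟙 _) M i n).hom a))) hpc).trans ?_
  exact congrArg (fun t => (T.push h M i₂ n₂ i₂ n₂ h₄ h₄').hom
    ((residue T M hY hU' hd' i n i₂ n₂ h₃ h₃').hom t)) (pull_id T M i n a)

end Groth.Agent.BMLib
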