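import Groth.Agent.Lib.BMCoh.Residue

/-!
Exactness of the sequence relating the groups of `F_{j+1}`, of `F_j` and of the points of
codimension `j + 1`.
-/

set_option autoImplicit false

universe u

open AlgebraicGeometry CategoryTheory CategoryTheory.Limits Opposite TopologicalSpace Set DirectSum

namespace Groth.Agent.BMLib

open BMCoh

variable {V : ObjectProperty Scheme.{u}} [IsConstructible V] {R : Type u} [CommRing R] {A : Coefs R}
  {T : PreTheory V R A} {X : Obj V} (M : A.Cat) {j : ℕ}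

attribute [local instance] isFiltered_fj isFiltered_pt

theorem le_diff {Y U : X.scheme.Opens} {S : Finset (X.cdPt (j + 1))}
    (hU : (U : Set X.scheme) = (Y : Set X.scheme) \ cl S) : U ≤ Y := hU.trans_subset sdiff_subset

/-- A class killed in `F_j` is pushed forward from finitely many points. -/
theorem exists_push_of_fjRes_eq_zero (i n i' n' : ℤ) (hi : i' = i + 2 * ((j + 1 : ℕ) : ℤ))
    (hn : n' = n + ((j + 1 : ℕ) : ℤ)) (a : T.fjGp X (j + 1) M i' n')
    (ha : ((T.fjRes X (Nat.le_succ j) i' n').app M).hom a = 0) :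
    a = 0 ∨ ∃ (S : Finset (X.cdPt (j + 1))) (hS : S.Nonempty) (Y : X.scheme.Opens)
      (hY : ContainsFj X (j + 1) Y) (hg : Good S Y) (z : T.gp (pc X (cl S) Y) M i n),
      a = (cls T M hY i' n').hom ((push T M (hg.isPc hS) i n i' n' hi hn).hom z) := by
  obtain ⟨Y₀, hY₀, b, rfl⟩ := exists_cls T M (j + 1) i' n' a
  rw [fjRes_cls] at ha
  obtain ⟨U, hUY₀, hU, hb⟩ := exists_pull_eq_zero T M (containsFj_mono X (Nat.le_succ j) Y₀ hY₀) i' n' b ha
  obtain ⟨S, Y, hYY₀, hY, hg, hUS⟩ := exists_cover hU hY₀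
  have hUj : ContainsFj X j (U ⊓ Y) := fun y hy => ⟨hU y hy, hY y (hy.trans (Nat.le_succ j))⟩
  have hdY := dim_open_of_containsFj X hY
  have hdY₀ := dim_open_of_containsFj X hY₀
  have hd := dim_open_of_containsFj X hUj
  have key : (T.pull (X.resLE (inf_le_right (a := U)) (hd.trans hdY.symm)) M i' n').hom
      ((T.pull (X.resLE hYY₀ (hdY.trans hdY₀.symm)) M i' n').hom b) = 0 := by
    rw [pull_comp, resLE_comp X (inf_le_right (a := U)) hYY₀,
      ← resLE_comp X (inf_le_left (b := Y)) hUY₀ (hd.trans (dim_open_of_containsFj X hU).symm)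
        ((dim_open_of_containsFj X hU).trans hdY₀.symm), ← pull_comp, hb, map_zero]
  rw [← cls_pull T M hY₀ hY hYY₀ (hdY.trans hdY₀.symm)]
  rcases S.eq_empty_or_nonempty with rfl | hS
  · left
    have hYU : Y ≤ U ⊓ Y := fun y hy => hUS.symm.subset ⟨hy, by simp [cl]⟩
    have he : (T.pull (X.resLE hYU (hdY.trans hd.symm)) M i' n').hom
        ((T.pull (X.resLE (inf_le_right (a := U)) (hd.trans hdY.symm)) M i' n').hom
          ((T.pull (X.resLE hYY₀ (hdY.trans hdY₀.symm)) M i' n').hom b)) =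
        (T.pull (X.resLE hYY₀ (hdY.trans hdY₀.symm)) M i' n').hom b := by
      rw [pull_comp T M i' n' (X.resLE (inf_le_right (a := U)) (hd.trans hdY.symm)) (X.resLE hYU (hdY.trans hd.symm)),
        resLE_comp, resLE_self, pull_id]
    rw [← he, key, map_zero, map_zero]
  · right
    obtain ⟨z, hz⟩ := exists_push T M (hg.isPc hS) hUS hd i n i' n' hi hn _ key
    exact ⟨S, hS, Y, hY, hg, z, by rw [hz]⟩

theorem exact_pushData_fjRes (P : T.PushData X (j + 1)) (i n i' n' : ℤ)
    (hi : i' = i + 2 * ((j + 1 : ℕ) : ℤ)) (hn : n' = n + ((j + 1 : ℕ) : ℤ)) :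
    Function.Exact (P.tot M i n i' n' hi hn).hom ((T.fjRes X (Nat.le_succ j) i' n').app M).hom := by
  classical
  intro a
  constructor
  · intro ha
    rcases exists_push_of_fjRes_eq_zero M i n i' n' hi hn a ha with rfl | ⟨S, hS, Y, hY, hg, z, rfl⟩
    · exact ⟨0, map_zero _⟩
    · refine ⟨∑ s : S, DirectSum.lof R (X.cdPt (j + 1)) (fun y => T.ptGp X y.1 M i n) s.1
        ((ptCls T M (hY s.1.1 s.1.2.le) i n).hom ((T.pull (incl hg s.2) M i n).hom z)), ?_⟩
      rw [map_sum, hg.push_eq_sum T M hS, map_sum]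
      refine Finset.sum_congr rfl fun s _ => ?_
      rw [PreTheory.PushData.tot_lof, pushData_ptCls M P s.1 (hg.isPc_pt s.2) hY]
  · rintro ⟨w, rfl⟩
    change (((T.fjRes X (Nat.le_succ j) i' n').app M).hom ∘ₗ (P.tot M i n i' n' hi hn).hom) w = (0 : _ →ₗ[R] _) w
    refine LinearMap.congr_fun (DirectSum.linearMap_ext R fun x => LinearMap.ext fun b => ?_) w
    simp only [LinearMap.comp_apply, LinearMap.zero_apply]
    rw [PreTheory.PushData.tot_lof]
    obtain ⟨Y₀, hY₀, b₀, rfl⟩ := exists_ptCls T M x i n b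
    obtain ⟨Y, hle, hY, hg, -⟩ := exists_good hY₀ {x} (C := (∅ : Set X.scheme)) isClosed_empty (by simp)
    have hx := Finset.mem_singleton_self x
    have h₀ : IsPc X (j + 1) (pt X x.1) Y₀ := ⟨dim_open_of_containsFj X hY₀, by
      rw [dim_pc_pt X (hY₀ x.1 x.2.le), ← dim_pc_pt X (hY x.1 x.2.le)]; exact (hg.isPc_pt hx).dimPc⟩
    rw [← ptCls_pull T M h₀ (hg.isPc_pt hx) (hY₀ x.1 x.2.le) (hY x.1 x.2.le) hle,
      pushData_ptCls M P x (hg.isPc_pt hx) hY, fjRes_cls]
    let U : X.scheme.Opens := Y ⊓ ⟨(closure {x.1})ᶜ, isClosed_closure.isOpen_compl⟩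
    have hU : (U : Set X.scheme) = (Y : Set X.scheme) \ (pt X x.1 : Set X.scheme) := rfl
    have hUj : ContainsFj X j U := fun y hy => ⟨hY y (hy.trans (Nat.le_succ j)), fun hy' => by
      have := specializes_eq_of_codim_le (finDim X) (specializes_iff_mem_closure.2 hy')
        (by rw [x.2]; exact hy.trans (Nat.le_succ j))
      rw [this, x.2] at hy
      omega⟩
    rw [← cls_pull T M (containsFj_mono X (Nat.le_succ j) Y hY) hUj inf_le_left
      ((dim_open_of_containsFj X hUj).trans (dim_open_of_containsFj X hY).symm),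
      pull_push_zero T M (hg.isPc_pt hx) hU (dim_open_of_containsFj X hUj), map_zero]

/-- A class on an open is represented, near `F_{j+1}`, by an open complementary to finitely many
points. -/
theorem exists_cls_diff (i n : ℤ) (a : T.fjGp X j M i n) :
    ∃ (S : Finset (X.cdPt (j + 1))) (Y U : X.scheme.Opens) (_ : ContainsFj X (j + 1) Y) (_ : Good S Y)
      (_ : (U : Set X.scheme) = (Y : Set X.scheme) \ cl S) (hUj : ContainsFj X j U)
      (b : T.gp (X.res U) M i n), (cls T M hUj i n).hom b = a := by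
  obtain ⟨U, hU, b, rfl⟩ := exists_cls T M j i n a
  obtain ⟨S, Y, -, hY, hg, hUS⟩ := exists_cover (Y₀ := ⊤) hU (fun _ _ => trivial)
  have hUj : ContainsFj X j (U ⊓ Y) := fun y hy => ⟨hU y hy, hY y (hy.trans (Nat.le_succ j))⟩
  exact ⟨S, Y, U ⊓ Y, hY, hg, hUS, hUj, _, cls_pull T M hU hUj inf_le_left
    ((dim_open_of_containsFj X hUj).trans (dim_open_of_containsFj X hU).symm) i n b⟩

/-- A class on the complement of finitely many points with vanishing residues extends. -/
theorem exists_fjRes_eq {S : Finset (X.cdPt (j + 1))} {Y U : X.scheme.Opens}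
    (hY : ContainsFj X (j + 1) Y) (hg : Good S Y)
    (hU : (U : Set X.scheme) = (Y : Set X.scheme) \ cl S) (hUj : ContainsFj X j U) (i n i' n' : ℤ)
    (hi : i' = i + 1 - 2 * ((j + 1 : ℕ) : ℤ)) (hn : n' = n - ((j + 1 : ℕ) : ℤ))
    (b : T.gp (X.res U) M i n)
    (hb : ∀ (hS : S.Nonempty) (s : S), (ptCls T M (hY s.1.1 s.1.2.le) i' n').hom
      ((T.pull (incl hg s.2) M i' n').hom ((residue T M (hg.isPc hS) hU (dim_open_of_containsFj X hUj)
        i n i' n' hi hn).hom b)) = 0) :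
    ∃ a, ((T.fjRes X (Nat.le_succ j) i n).app M).hom a = (cls T M hUj i n).hom b := by
  have hdU := dim_open_of_containsFj X hUj
  rcases S.eq_empty_or_nonempty with rfl | hS
  · have hYU : Y ≤ U := fun y hy => hU.symm.subset ⟨hy, by simp [cl]⟩
    refine ⟨(cls T M hY i n).hom ((T.pull (X.resLE hYU ((dim_open_of_containsFj X hY).trans hdU.symm)) M i n).hom b), ?_⟩
    rw [fjRes_cls, cls_pull T M hUj (containsFj_mono X (Nat.le_succ j) Y hY) hYU]
  · obtain ⟨Y', hle, hY', hzero⟩ := exists_shrink_eq_zero T M hg hY hS i' n' _ (hb hS)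
    have hg' := hg.of_le hle hY'
    let U' : X.scheme.Opens := Y' ⊓ ⟨(cl S : Set X.scheme)ᶜ, (cl S).isClosed.isOpen_compl⟩
    have hU' : (U' : Set X.scheme) = (Y' : Set X.scheme) \ cl S := rfl
    have hU'j := containsFj_diff (containsFj_mono X (Nat.le_succ j) Y' hY') hU'
    have hd' := dim_open_of_containsFj X hU'j
    have hUU : U' ≤ U := fun y hy => hU.symm.subset ⟨hle hy.1, hy.2⟩
    rw [pull_residue T M (hg.isPc hS) hU hdU i n i' n' (hg'.isPc hS) hle hU' hd' hUU] at hzero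
    obtain ⟨b', hb'⟩ := exists_extension T M (hg'.isPc hS) hU' hd' i n i' n' hi hn _ hzero
    refine ⟨(cls T M hY' i n).hom b', ?_⟩
    rw [fjRes_cls, ← cls_pull T M (containsFj_mono X (Nat.le_succ j) Y' hY') hU'j inf_le_left
      (hd'.trans (dim_open_of_containsFj X hY').symm), hb', cls_pull T M hUj hU'j hUU]

theorem exact_fjRes_resData (Q : T.ResData X j) (i n i' n' : ℤ)
    (hi : i' = i + 1 - 2 * ((j : ℤ) + 1)) (hn : n' = n - ((j : ℤ) + 1)) :
    Function.Exact ((T.fjRes X (Nat.le_succ j) i n).app M).hom (Q.tot M i n i' n' hi hn).hom := by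
  intro a
  constructor
  · intro ha
    obtain ⟨S, Y, U, hY, hg, hU, hUj, b, rfl⟩ := exists_cls_diff M i n a
    refine exists_fjRes_eq M hY hg hU hUj i n i' n' (by rw [hi]; push_cast; ring)
      (by rw [hn]; push_cast; ring) b fun hS s => ?_
    rw [← resData_cls M Q hg s.2 hU hUj i n i' n' hi hn, ← PreTheory.ResData.tot_apply, ha]
    rfl
  · rintro ⟨w, rfl⟩
    obtain ⟨Y, hY, b, rfl⟩ := exists_cls T M (j + 1) i n w
    rw [fjRes_cls]
    refine DFinsupp.ext fun x => ?_
    rw [PreTheory.ResData.tot_apply]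
    exact resData_eq_zero M Q _ x (hY x.1 x.2.le) i n i' n' hi hn b

theorem exact_resData_pushData (Q : T.ResData X j) (P : T.PushData X (j + 1)) (i n i' n' : ℤ)
    (hi : i' = i + 1 - 2 * ((j : ℤ) + 1)) (hn : n' = n - ((j : ℤ) + 1))
    (hi2 : i + 1 = i' + 2 * ((j + 1 : ℕ) : ℤ)) (hn2 : n = n' + ((j + 1 : ℕ) : ℤ)) :
    Function.Exact (Q.tot M i n i' n' hi hn).hom (P.tot M i' n' (i + 1) n hi2 hn2).hom := by
  classical
  have hi' : i' = i + 1 - 2 * ((j + 1 : ℕ) : ℤ) := by rw [hi]; push_cast; ring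
  have hn' : n' = n - ((j + 1 : ℕ) : ℤ) := by rw [hn]; push_cast; ring
  intro w
  constructor
  · intro hw
    have hrep : ∀ s : X.cdPt (j + 1), ∃ (Y : X.scheme.Opens) (hY : ContainsFj X (j + 1) Y)
        (b : T.gp (pc X (pt X s.1) Y) M i' n'), (ptCls T M (hY s.1 s.2.le) i' n').hom b = w s :=
      fun s => exists_ptCls T M s i' n' (w s)
    choose Ys hYs bs hbs using hrep
    let S : Finset (X.cdPt (j + 1)) := DFinsupp.support w
    let Y₀ : X.scheme.Opens := ⟨⋂ s : S, (Ys s.1 : Set X.scheme), isOpen_iInter_of_finite fun s => (Ys s.1).isOpen⟩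
    obtain ⟨Y, hle, hY, hg, -⟩ := exists_good (Y₀ := Y₀) (fun y hy => mem_iInter.2 fun s => hYs s.1 y hy)
      S (C := (∅ : Set X.scheme)) isClosed_empty (by simp)
    have hwS : w = ∑ s : S, DirectSum.lof R (X.cdPt (j + 1)) (fun y => T.ptGp X y.1 M i' n') s.1 (w s.1) :=
      (DFinsupp.sum_single (f := w)).symm.trans (S.sum_attach _).symm
    rcases S.eq_empty_or_nonempty with hS | hS
    · refine ⟨0, ?_⟩
      have : w = 0 := DFinsupp.support_eq_empty.1 hS
      rw [map_zero, this]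
    · have hles : ∀ s : S, Y ≤ Ys s.1 := fun s y hy => mem_iInter.1 (hle hy) s
      have hps : ∀ s : S, IsPc X (j + 1) (pt X s.1.1) (Ys s.1) := fun s =>
        ⟨dim_open_of_containsFj X (hYs s.1), by
          rw [dim_pc_pt X (hYs s.1 s.1.1 s.1.2.le), ← dim_pc_pt X (hY s.1.1 s.1.2.le)]
          exact (hg.isPc_pt s.2).dimPc⟩
      obtain ⟨z, hz⟩ := hg.exists_glue T M i' n'
        fun s => (T.pull (pcHom (hg.isPc_pt s.2) (hps s) (hles s)) M i' n').hom (bs s.1)
      have hwz : ∀ s : S, (ptCls T M (hY s.1.1 s.1.2.le) i' n').hom ((T.pull (incl hg s.2) M i' n').hom z) = w s.1 :=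
        fun s => by rw [hz, ptCls_pull T M (hps s) (hg.isPc_pt s.2) (hYs s.1 s.1.1 s.1.2.le), hbs]
      have hpush : (cls T M hY (i + 1) n).hom ((push T M (hg.isPc hS) i' n' (i + 1) n hi2 hn2).hom z) = 0 := by
        rw [← hw, hwS, map_sum, hg.push_eq_sum T M hS, map_sum]
        refine Finset.sum_congr rfl fun s _ => ?_
        rw [PreTheory.PushData.tot_lof, ← hwz, pushData_ptCls M P s.1 (hg.isPc_pt s.2) hY]
      obtain ⟨Y', hle', hY', hz'⟩ := exists_pull_eq_zero T M hY (i + 1) n _ hpush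
      have hg' := hg.of_le hle' hY'
      rw [pull_push T M (hg'.isPc hS) (hg.isPc hS) hle'] at hz'
      let U' : X.scheme.Opens := Y' ⊓ ⟨(cl S : Set X.scheme)ᶜ, (cl S).isClosed.isOpen_compl⟩
      have hU' : (U' : Set X.scheme) = (Y' : Set X.scheme) \ cl S := rfl
      have hU'j := containsFj_diff (containsFj_mono X (Nat.le_succ j) Y' hY') hU'
      obtain ⟨a, ha⟩ := exists_residue T M (hg'.isPc hS) hU' (dim_open_of_containsFj X hU'j) i n i' n' (i + 1)
        hi' hn' hi2 hn2 _ hz'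
      refine ⟨(cls T M hU'j i n).hom a, DFinsupp.ext fun x => ?_⟩
      rw [PreTheory.ResData.tot_apply]
      by_cases hx : x ∈ S
      · rw [resData_cls M Q hg' hx hU' hU'j i n i' n' hi hn, ha, ptCls_incl_pull T M hg hg' hle' hx]
        exact hwz ⟨x, hx⟩
      · rw [DFinsupp.notMem_support_iff.1 hx]
        exact resData_eq_zero M Q hU'j x ⟨hY' x.1 x.2.le, fun h => hx (mem_of_mem_cl h)⟩ i n i' n' hi hn a
  · rintro ⟨a, rfl⟩
    obtain ⟨S, Y, U, hY, hg, hU, hUj, b, rfl⟩ := exists_cls_diff M i n a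
    have hsum : (Q.tot M i n i' n' hi hn).hom ((cls T M hUj i n).hom b) = ∑ s : S,
        DirectSum.lof R (X.cdPt (j + 1)) (fun y => T.ptGp X y.1 M i' n') s.1
          ((Q.cpt s.1 M i n i' n' hi hn).hom ((cls T M hUj i n).hom b)) := by
      refine DFinsupp.ext fun x => ?_
      rw [PreTheory.ResData.tot_apply, DFinsupp.finsetSum_apply]
      by_cases hx : x ∈ S
      · rw [Finset.sum_eq_single (⟨x, hx⟩ : S) (fun s _ hs => DFinsupp.single_eq_of_ne (fun h => hs (Subtype.ext h.symm)))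
          (fun h => absurd (Finset.mem_univ _) h)]
        exact (DirectSum.of_eq_same (β := fun y : X.cdPt (j + 1) => T.ptGp X y.1 M i' n') x _).symm
      · rw [Finset.sum_eq_zero fun s _ => DFinsupp.single_eq_of_ne fun h : x = s.1 => hx (h ▸ s.2)]
        exact resData_eq_zero M Q hUj x (hU.symm.subset ⟨hY x.1 x.2.le, fun h => hx (mem_of_mem_cl h)⟩) i n i' n' hi hn b
    rw [hsum, map_sum]
    rcases S.eq_empty_or_nonempty with rfl | hS
    · exact Finset.sum_of_isEmpty _
    · rw [← map_zero (cls T M hY (i + 1) n).hom,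
        ← push_residue_eq_zero T M (hg.isPc hS) hU (dim_open_of_containsFj X hUj) i n i' n' (i + 1) hi' hn' hi2 hn2 b,
        hg.push_eq_sum T M hS, map_sum]
      refine Finset.sum_congr rfl fun s _ => ?_
      rw [PreTheory.PushData.tot_lof, resData_cls M Q hg s.2 hU hUj i n i' n' hi hn,
        pushData_ptCls M P s.1 (hg.isPc_pt s.2) hY]

end Groth.Agent.BMLib
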