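import Groth.Agent.Lib.BMCoh.Groups
import Mathlib.AlgebraicGeometry.Morphisms.ClosedImmersion

/-!
Gysin sequences element by element, and finite disjoint unions.
-/

set_option autoImplicit false

universe u

open AlgebraicGeometry CategoryTheory CategoryTheory.Limits Opposite TopologicalSpace Set

namespace Groth.Agent.BMLib

open BMCoh

variable {V : ObjectProperty Scheme.{u}} [IsConstructible V] {R : Type u} [CommRing R] {A : Coefs R}
  (T : PreTheory V R A) {X : Obj V} (M : A.Cat)

section Exact

variable (D : Decomp X)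

theorem pull_push_eq_zero (i n i' n' : ℤ) (hi : i' = i + 2 * relCodim D.Z.scheme X.scheme)
    (hn : n' = n + relCodim D.Z.scheme X.scheme) (z : T.gp D.Z M i n) :
    (T.pull D.j M i' n').hom ((T.push D.i M i n i' n' hi hn).hom z) = 0 := by
  obtain ⟨k, rfl⟩ : ∃ k, i' = k + 1 := ⟨i' - 1, by omega⟩
  exact (T.exact_push_pull D M k n' i n hi hn).apply_apply_eq_zero z

theorem exists_push_of_pull_zero (i n i' n' : ℤ) (hi : i' = i + 2 * relCodim D.Z.scheme X.scheme)
    (hn : n' = n + relCodim D.Z.scheme X.scheme) (a : T.gp X M i' n')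
    (ha : (T.pull D.j M i' n').hom a = 0) :
    ∃ z : T.gp D.Z M i n, (T.push D.i M i n i' n' hi hn).hom z = a := by
  obtain ⟨k, rfl⟩ : ∃ k, i' = k + 1 := ⟨i' - 1, by omega⟩
  exact (T.exact_push_pull D M k n' i n hi hn a).1 ha

theorem exists_pull_of_res_zero (i n i' n' : ℤ) (hi : i' = i + 1 - 2 * D.codim)
    (hn : n' = n - D.codim) (a : T.gp D.U M i n) (ha : (T.res D M i n i' n' hi hn).hom a = 0) :
    ∃ b : T.gp X M i n, (T.pull D.j M i n).hom b = a :=
  (T.exact_pull_res D M i n i' n' hi hn a).1 ha

theorem res_pull_eq_zero (i n i' n' : ℤ) (hi : i' = i + 1 - 2 * D.codim) (hn : n' = n - D.codim)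
    (b : T.gp X M i n) : (T.res D M i n i' n' hi hn).hom ((T.pull D.j M i n).hom b) = 0 :=
  (T.exact_pull_res D M i n i' n' hi hn).apply_apply_eq_zero b

theorem push_res_eq_zero (i n i' n' i'' : ℤ) (hi : i' = i + 1 - 2 * D.codim) (hn : n' = n - D.codim)
    (hi' : i'' = i' + 2 * relCodim D.Z.scheme X.scheme)
    (hn' : n = n' + relCodim D.Z.scheme X.scheme) (a : T.gp D.U M i n) :
    (T.push D.i M i' n' i'' n hi' hn').hom ((T.res D M i n i' n' hi hn).hom a) = 0 := by
  obtain rfl : i'' = i + 1 := by
    have : D.codim = relCodim D.Z.scheme X.scheme := rfl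
    omega
  exact (T.exact_res_push D M i n i' n' hi hn hi' hn').apply_apply_eq_zero a

theorem exists_res_of_push_zero (i n i' n' i'' : ℤ) (hi : i' = i + 1 - 2 * D.codim)
    (hn : n' = n - D.codim) (hi' : i'' = i' + 2 * relCodim D.Z.scheme X.scheme)
    (hn' : n = n' + relCodim D.Z.scheme X.scheme) (z : T.gp D.Z M i' n')
    (hz : (T.push D.i M i' n' i'' n hi' hn').hom z = 0) :
    ∃ a : T.gp D.U M i n, (T.res D M i n i' n' hi hn).hom a = z := by
  obtain rfl : i'' = i + 1 := by
    have : D.codim = relCodim D.Z.scheme X.scheme := rfl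
    omega
  exact (T.exact_res_push D M i n i' n' hi hn hi' hn' z).1 hz

end Exact

theorem relCodim_eq_zero {X' : Obj V} (h : X' ⟶ X) : relCodim X'.scheme X.scheme = 0 := by
  simp [relCodim, h.dim_eq]

theorem eq_zero_of_isEmpty [IsEmpty X.scheme] (i n : ℤ) (a : T.gp X M i n) : a = 0 := by
  let D : Decomp X :=
    { Z := X, U := X, i := 𝟙 _, closedImm := inferInstance, j := 𝟙 X
      range_eq := Subsingleton.elim _ _ }
  have hc : relCodim D.Z.scheme X.scheme = 0 := by simp [relCodim, D]
  have h := pull_push_eq_zero T M D i n i n (by omega) (by omega) a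
  rw [T.push_id X M i n] at h
  exact (pull_id T M i n a).symm.trans h

theorem pull_push_self {W : Obj V} (h : W ⟶ X) [IsProper h.hom] (i n : ℤ)
    (hi : i = i + 2 * relCodim W.scheme X.scheme) (hn : n = n + relCodim W.scheme X.scheme)
    (w : T.gp W M i n) : (T.pull h M i n).hom ((T.push h.hom M i n i n hi hn).hom w) = w := by
  have sq : IsPullback (𝟙 W.scheme) (𝟙 W.scheme) h.hom h.hom :=
    (IsOpenImmersion.isPullback (𝟙 W.scheme) (𝟙 W.scheme) h.hom h.hom rfl (by
      rw [Scheme.Hom.opensRange_of_isIso (𝟙 W.scheme)]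
      exact Scheme.Hom.preimage_opensRange h.hom)).flip
  have := T.push_pull h.hom (𝟙 W.scheme) h (𝟙 W) sq M i n i n hi hn (by simp [relCodim]) (by simp [relCodim])
  rw [T.push_id] at this
  have h' := congrArg (fun f => f.hom w) this
  simpa [PreTheory.pull] using h'

theorem pull_injective_of_isIso {W : Obj V} (h : W ⟶ X) [IsIso h.hom] (i n : ℤ) (a : T.gp X M i n)
    (ha : (T.pull h M i n).hom a = 0) : a = 0 := by
  let h' : X ⟶ W := ⟨inv h.hom, inferInstance, h.dim_eq.symm⟩
  have := pull_comp T M i n h h' a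
  rw [ha, map_zero, show h' ≫ h = 𝟙 X from Hom.ext (by simp [h']), pull_id] at this
  exact this.symm

/-- A piece of a finite decomposition into clopen pieces lifted to an open containing it. -/
noncomputable def liftOpen {W : Obj V} (h : W ⟶ X) (O : X.scheme.Opens)
    (hO : range h.hom ⊆ (O : Set X.scheme)) (hd : WeilCoh.dim (O : Scheme.{u}) = WeilCoh.dim X.scheme) :
    W ⟶ X.res O where
  hom := IsOpenImmersion.lift O.ι h.hom (by rwa [Scheme.Opens.range_ι])
  isOpenImmersion := by
    have : IsOpenImmersion (IsOpenImmersion.lift O.ι h.hom (by rwa [Scheme.Opens.range_ι]) ≫ O.ι) := by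
      rw [IsOpenImmersion.lift_fac]; infer_instance
    exact IsOpenImmersion.of_comp _ O.ι
  dim_eq := h.dim_eq.trans hd.symm

theorem liftOpen_comp {W : Obj V} (h : W ⟶ X) (O : X.scheme.Opens)
    (hO : range h.hom ⊆ (O : Set X.scheme)) (hd : WeilCoh.dim (O : Scheme.{u}) = WeilCoh.dim X.scheme) :
    liftOpen h O hO hd ≫ X.resι O hd = h :=
  Hom.ext (IsOpenImmersion.lift_fac _ _ _)

theorem dim_open_of_range_subset {W : Obj V} (h : W ⟶ X) (O : X.scheme.Opens)
    (hO : range h.hom ⊆ (O : Set X.scheme)) : WeilCoh.dim (O : Scheme.{u}) = WeilCoh.dim X.scheme := by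
  refine le_antisymm (dim_open_le X O) ?_
  let g := IsOpenImmersion.lift O.ι h.hom (by rwa [Scheme.Opens.range_ι])
  have : IsOpenImmersion (g ≫ O.ι) := by rw [IsOpenImmersion.lift_fac]; infer_instance
  have := IsOpenImmersion.of_comp g O.ι
  rw [← h.dim_eq]
  exact natDim_le_of_inducing (finDim (X.res O)) g.isEmbedding.isInducing

section Split

variable {ι : Type*} (W : ι → Obj V) (h : ∀ s, W s ⟶ X) [hcl : ∀ s, IsClosedImmersion (h s).hom]
  (hdis : Pairwise fun s t => Disjoint (range (h s).hom) (range (h t).hom))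
include hcl hdis

theorem eq_zero_on_union (i n : ℤ) (a : T.gp X M i n) (ha : ∀ s, (T.pull (h s) M i n).hom a = 0)
    {S : Finset ι} (hS : S.Nonempty) :
    ∀ (O : X.scheme.Opens), (O : Set X.scheme) = ⋃ s ∈ S, range (h s).hom →
      ∀ hd, (T.pull (X.resι O hd) M i n).hom a = 0 := by
  classical
  induction hS using Finset.Nonempty.cons_induction with
  | singleton s =>
    intro O hO hd
    have hs : range (h s).hom ⊆ (O : Set X.scheme) := by simp [hO]
    let g := liftOpen (h s) O hs hd
    have hg : Function.Surjective g.hom := by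
      intro y
      obtain ⟨w, hw⟩ : O.ι y ∈ range (h s).hom := by
        have : O.ι y ∈ (O : Set X.scheme) := O.range_ι.subset ⟨y, rfl⟩
        simpa [hO] using this
      refine ⟨w, O.ι.isEmbedding.injective ?_⟩
      rw [← Scheme.Hom.comp_apply]
      change ((g ≫ X.resι O hd).hom) w = _
      rw [liftOpen_comp, hw]
    have : IsIso g.hom := by
      have := g.isOpenImmersion
      exact (isIso_iff_isOpenImmersion_and_epi_base _).2 ⟨inferInstance, (TopCat.epi_iff_surjective _).2 hg⟩
    refine pull_injective_of_isIso T M g i n _ ?_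
    rw [pull_comp, liftOpen_comp, ha]
  | cons s S hsS hS ih =>
    intro O hO hd
    let O₁ : X.scheme.Opens := ⟨⋃ t ∈ S, range (h t).hom,
      isOpen_biUnion fun t _ => (h t).hom.isOpenEmbedding.isOpen_range⟩
    obtain ⟨t₀, ht₀⟩ := hS
    have hd₁ := dim_open_of_range_subset (h t₀) O₁ (fun y hy => mem_biUnion ht₀ hy)
    have hs : range (h s).hom ⊆ (O : Set X.scheme) := by
      rw [hO]; exact fun y hy => mem_biUnion (Finset.mem_cons_self s S) hy
    have h₁ : O₁ ≤ O := by
      intro y hy
      obtain ⟨t, ht, hy⟩ := mem_iUnion₂.1 hy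
      exact hO.symm.subset (mem_biUnion (Finset.mem_cons_of_mem ht) hy)
    let g := liftOpen (h s) O hs hd
    have : IsClosedImmersion (g.hom ≫ O.ι) := by
      change IsClosedImmersion (g ≫ X.resι O hd).hom
      rw [liftOpen_comp]; infer_instance
    let D : Decomp (X.res O) :=
      { Z := W s, U := X.res O₁, i := g.hom, closedImm := IsClosedImmersion.of_comp g.hom O.ι
        j := X.resLE h₁ (hd₁.trans hd.symm)
        range_eq := by
          apply O.ι.isEmbedding.injective.image_injective
          rw [Set.image_compl_eq_range_sdiff_image O.ι.isEmbedding.injective, ← Set.range_comp,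
            ← Set.range_comp, ← TopCat.coe_comp, ← TopCat.coe_comp, ← Scheme.Hom.comp_base,
            ← Scheme.Hom.comp_base, Scheme.Opens.range_ι]
          change range (X.scheme.homOfLE h₁ ≫ O.ι) = (O : Set X.scheme) \ range (g ≫ X.resι O hd).hom
          rw [liftOpen_comp, Scheme.homOfLE_ι, Scheme.Opens.range_ι, hO]
          change (⋃ t ∈ S, range (h t).hom) = _
          rw [Finset.cons_eq_insert, Finset.set_biUnion_insert, Set.union_diff_left, sdiff_eq_left.2]
          rw [Set.disjoint_iUnion₂_left]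
          exact fun t ht => hdis fun he => hsS (he ▸ ht) }
    have hc : relCodim (W s).scheme (X.res O).scheme = 0 := relCodim_eq_zero g
    have hU : (T.pull D.j M i n).hom ((T.pull (X.resι O hd) M i n).hom a) = 0 := by
      rw [pull_comp, show D.j ≫ X.resι O hd = X.resι O₁ hd₁ from Hom.ext (X.scheme.homOfLE_ι h₁)]
      exact ih O₁ rfl hd₁
    have hc' : relCodim D.Z.scheme (X.res O).scheme = 0 := hc
    obtain ⟨w, hw⟩ := exists_push_of_pull_zero T M D i n i n (by omega) (by omega) _ hU
    haveI : IsClosedImmersion g.hom := IsClosedImmersion.of_comp g.hom O.ι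
    have := pull_push_self T M g i n (by omega) (by omega) w
    rw [hw, pull_comp, liftOpen_comp, ha] at this
    rw [← hw, ← this, map_zero]

theorem eq_zero_of_split [Finite ι] (hcov : ⋃ s, range (h s).hom = univ) (i n : ℤ) (a : T.gp X M i n)
    (ha : ∀ s, (T.pull (h s) M i n).hom a = 0) : a = 0 := by
  rcases isEmpty_or_nonempty ι with hι | hι
  · have : IsEmpty X.scheme := ⟨fun y => by simpa using hcov.symm.subset (mem_univ y)⟩
    exact eq_zero_of_isEmpty T M i n a
  · have := Fintype.ofFinite ι
    have htop := eq_zero_on_union T M W h hdis i n a ha Finset.univ_nonempty ⊤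
      (by simp [hcov]) (dim_top X.scheme)
    haveI : IsIso (X.resι ⊤ (dim_top X.scheme)).hom := inferInstanceAs (IsIso X.scheme.topIso.hom)
    exact pull_injective_of_isIso T M _ i n a htop

open Classical in
theorem pull_push_other {s t : ι} (hst : t ≠ s) (i n : ℤ)
    (hi : i = i + 2 * relCodim (W s).scheme X.scheme) (hn : n = n + relCodim (W s).scheme X.scheme)
    (w : T.gp (W s) M i n) :
    (T.pull (h t) M i n).hom ((T.push (h s).hom M i n i n hi hn).hom w) = 0 := by
  let O : X.scheme.Opens := ⟨(range (h s).hom)ᶜ, (h s).hom.isClosedEmbedding.isClosed_range.isOpen_compl⟩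
  have ht : range (h t).hom ⊆ (O : Set X.scheme) := fun y hy hy' => (hdis hst).le_bot ⟨hy, hy'⟩
  have hd := dim_open_of_range_subset (h t) O ht
  let D : Decomp X :=
    { Z := W s, U := X.res O, i := (h s).hom, closedImm := inferInstance, j := X.resι O hd
      range_eq := Scheme.Opens.range_ι O }
  rw [← liftOpen_comp (h t) O ht hd, ← pull_comp]
  rw [show (T.pull (X.resι O hd) M i n).hom ((T.push (h s).hom M i n i n hi hn).hom w) = 0 from
    pull_push_eq_zero T M D i n i n hi hn w, map_zero]

theorem eq_sum_push [Fintype ι] (hcov : ⋃ s, range (h s).hom = univ) (i n : ℤ) (a : T.gp X M i n) :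
    a = ∑ s, (T.push (h s).hom M i n i n (by rw [relCodim_eq_zero (h s)]; omega)
      (by rw [relCodim_eq_zero (h s)]; omega)).hom ((T.pull (h s) M i n).hom a) := by
  classical
  refine sub_eq_zero.1 (eq_zero_of_split T M W h hdis hcov i n _ fun t => ?_)
  rw [map_sub, map_sum, Finset.sum_eq_single t (fun s _ hst => pull_push_other T M W h hdis
    (Ne.symm hst) i n _ _ _) (fun ht => absurd (Finset.mem_univ t) ht), pull_push_self, sub_self]

theorem exists_glue [Fintype ι] (i n : ℤ) (b : ∀ s, T.gp (W s) M i n) :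
    ∃ a : T.gp X M i n, ∀ s, (T.pull (h s) M i n).hom a = b s := by
  classical
  refine ⟨∑ s, (T.push (h s).hom M i n i n (by rw [relCodim_eq_zero (h s)]; omega)
      (by rw [relCodim_eq_zero (h s)]; omega)).hom (b s), fun t => ?_⟩
  rw [map_sum, Finset.sum_eq_single t (fun s _ hst => pull_push_other T M W h hdis
    (Ne.symm hst) i n _ _ _) (fun ht => absurd (Finset.mem_univ t) ht), pull_push_self]

end Split

end Groth.Agent.BMLib
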