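import Groth.Prelude.Def_BMCoh3
import Groth.Agent.Lib.TopDimLib.Basic

/-!
Dimensions of closures of points in an object of a constructible class.
-/

set_option autoImplicit false

universe u

open AlgebraicGeometry CategoryTheory TopologicalSpace Topology Set

namespace Groth.Agent.BMLib

open BMCoh

section General

variable {T S : Type*} [TopologicalSpace T] [TopologicalSpace S]

theorem natDim_le_of_le (hfin : topologicalKrullDim T < ⊤)
    (h : topologicalKrullDim S ≤ topologicalKrullDim T) : WeilCoh.natDim S ≤ WeilCoh.natDim T := by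
  unfold WeilCoh.natDim
  generalize topologicalKrullDim S = a at h
  generalize topologicalKrullDim T = b at h hfin
  induction b using WithBot.recBotCoe with
  | bot => rw [le_bot_iff.1 h]
  | coe b =>
    induction a using WithBot.recBotCoe with
    | bot => simp
    | coe a =>
      simp only [WithBot.unbotD_coe]
      exact ENat.toNat_le_toNat (by exact_mod_cast h) (fun hb => hfin.ne (by rw [hb]; rfl))

theorem natDim_lt_of_lt (hfin : topologicalKrullDim T < ⊤) (h0 : 0 ≤ topologicalKrullDim S)
    (h : topologicalKrullDim S < topologicalKrullDim T) : WeilCoh.natDim S < WeilCoh.natDim T := by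
  unfold WeilCoh.natDim
  generalize topologicalKrullDim S = a at h h0
  generalize topologicalKrullDim T = b at h hfin
  induction b using WithBot.recBotCoe with
  | bot => exact absurd h (not_lt_bot)
  | coe b =>
    induction a using WithBot.recBotCoe with
    | bot => exact absurd h0 (by simp)
    | coe a =>
      simp only [WithBot.unbotD_coe]
      obtain ⟨m, rfl⟩ := ENat.ne_top_iff_exists.1 (fun hb : b = ⊤ => hfin.ne (by rw [hb]; rfl))
      have h' : a < (m : ℕ∞) := WithBot.coe_lt_coe.1 h
      obtain ⟨k, rfl⟩ := ENat.ne_top_iff_exists.1 h'.ne_top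
      simpa using h'

theorem natDim_le_of_inducing (hfin : topologicalKrullDim T < ⊤) {f : S → T} (hf : IsInducing f) :
    WeilCoh.natDim S ≤ WeilCoh.natDim T :=
  natDim_le_of_le hfin hf.topologicalKrullDim_le

theorem natDim_range {f : S → T} (hf : IsEmbedding f) :
    WeilCoh.natDim (range f) = WeilCoh.natDim S := by
  unfold WeilCoh.natDim
  rw [IsHomeomorph.topologicalKrullDim_eq _ hf.toHomeomorph.isHomeomorph]

theorem natDim_subtype_mono (hfin : topologicalKrullDim T < ⊤) {A B : Set T} (h : A ⊆ B) :
    WeilCoh.natDim A ≤ WeilCoh.natDim B :=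
  natDim_le_of_inducing ((topologicalKrullDim_subspace_le T B).trans_lt hfin)
    (IsEmbedding.inclusion h).isInducing

theorem natDim_univ : WeilCoh.natDim (univ : Set T) = WeilCoh.natDim T := by
  unfold WeilCoh.natDim
  rw [IsHomeomorph.topologicalKrullDim_eq _ (Homeomorph.Set.univ T).isHomeomorph]

end General

section Scheme

variable {X Y : Scheme.{u}}

theorem pdim_le_dim (hfin : topologicalKrullDim X < ⊤) (x : X) :
    WeilCoh.pdim X x ≤ WeilCoh.dim X :=
  natDim_le_of_inducing hfin IsInducing.subtypeVal

theorem pdim_lt_of_specializes (hfin : topologicalKrullDim X < ⊤) {x y : X} (h : x ⤳ y) (hne : y ≠ x) :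
    WeilCoh.pdim X y < WeilCoh.pdim X x := by
  let C : Set X := closure {x}
  haveI : IrreducibleSpace C :=
    isIrreducible_iff_irreducibleSpace.1 isIrreducible_singleton.closure
  have hCfin : topologicalKrullDim C < ⊤ := (topologicalKrullDim_subspace_le X C).trans_lt hfin
  have hy : y ∈ C := h.mem_closure
  let Z : Set C := Subtype.val ⁻¹' closure {y}
  have hZ : IsClosed Z := isClosed_closure.preimage continuous_subtype_val
  have hZne : Z ≠ univ := by
    intro hu
    have : y ⤳ x := specializes_iff_mem_closure.2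
      (eq_univ_iff_forall.1 hu ⟨x, subset_closure rfl⟩)
    exact hne (this.antisymm h).eq
  have hlt := TopDimLib.dim_lt_of_closed_ssubset hCfin.ne Z hZ hZne
  have : Nonempty Z := ⟨⟨⟨y, hy⟩, subset_closure rfl⟩⟩
  have h0 : 0 ≤ topologicalKrullDim Z := TopDimLib.zero_le_dim
  have hle : WeilCoh.natDim (closure {y} : Set X) ≤ WeilCoh.natDim Z := by
    refine natDim_le_of_inducing ((topologicalKrullDim_subspace_le C Z).trans_lt hCfin)
      (f := fun z => ⟨⟨z.1, (closure_minimal (by simpa using hy) isClosed_closure) z.2⟩, z.2⟩) ?_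
    exact IsInducing.of_comp (g := fun z : Z => (z.1.1 : X))
      (Continuous.subtype_mk (Continuous.subtype_mk continuous_subtype_val _) _)
      (continuous_subtype_val.comp continuous_subtype_val) IsInducing.subtypeVal
  exact hle.trans_lt (natDim_lt_of_lt hCfin h0 hlt)

theorem specializes_eq_of_codim_le (hfin : topologicalKrullDim X < ⊤) {x y : X} (h : x ⤳ y)
    (hc : WeilCoh.codim X y ≤ WeilCoh.codim X x) : y = x := by
  by_contra hne
  have := pdim_lt_of_specializes hfin h hne
  have := pdim_le_dim hfin x
  unfold WeilCoh.codim at hc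
  omega

theorem codim_lt_of_specializes (hfin : topologicalKrullDim X < ⊤) {x y : X} (h : x ⤳ y) (hne : y ≠ x) :
    WeilCoh.codim X x < WeilCoh.codim X y :=
  not_le.1 fun hc => hne (specializes_eq_of_codim_le hfin h hc)

theorem pdim_eq_zero_or_series (hfin : topologicalKrullDim X < ⊤) [Nonempty X] {k : ℕ}
    (hk : k ≤ WeilCoh.dim X) : ∃ x : X, WeilCoh.pdim X x = k := by
  have : Nonempty (IrreducibleCloseds X) :=
    ⟨⟨closure {Classical.arbitrary X}, isIrreducible_singleton.closure, isClosed_closure⟩⟩
  haveI : FiniteDimensionalOrder (IrreducibleCloseds X) :=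
    Order.finiteDimensionalOrder_iff_krullDim_ne_bot_and_top.2
      ⟨(lt_of_lt_of_le (WithBot.bot_lt_coe 0) Order.krullDim_nonneg).ne', hfin.ne⟩
  let p := LTSeries.longestOf (IrreducibleCloseds X)
  have hp : topologicalKrullDim X = p.length := Order.krullDim_eq_length_of_finiteDimensionalOrder
  have hdim : WeilCoh.dim X = p.length := by
    unfold WeilCoh.dim WeilCoh.natDim
    rw [hp]
    rfl
  let g : Fin (p.length + 1) → X := fun i => (p i).isIrreducible.genericPoint
  have hg : ∀ i, closure {g i} = (p i : Set X) := fun i => by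
    rw [(p i).isIrreducible.isGenericPoint_genericPoint_closure.def]
    exact (p i).isClosed.closure_eq
  have hge : ∀ i : Fin (p.length + 1), (i : ℕ) ≤ WeilCoh.pdim X (g i) := by
    intro i
    have h : ((i : ℕ) : WithBot ℕ∞) ≤ topologicalKrullDim (closure {g i} : Set X) :=
      TopDimLib.length_le_closed (p.take i) (by
        rw [hg]
        exact subset_of_eq (congrArg SetLike.coe (RelSeries.last_take p i)))
    unfold WeilCoh.pdim WeilCoh.natDim
    have hlt := (topologicalKrullDim_subspace_le X (closure {g i})).trans_lt hfin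
    generalize topologicalKrullDim (closure {g i} : Set X) = b at h hlt
    induction b using WithBot.recBotCoe with
    | bot => exact absurd h (by simp)
    | coe b =>
      simp only [WithBot.unbotD_coe]
      obtain ⟨m, rfl⟩ := ENat.ne_top_iff_exists.1 (fun hb : b = ⊤ => hlt.ne (by rw [hb]; rfl))
      simpa using (WithBot.coe_le_coe.1 h : ((i : ℕ) : ℕ∞) ≤ m)
  have hle : ∀ (m : ℕ) (i : Fin (p.length + 1)), p.length - i = m → WeilCoh.pdim X (g i) ≤ i := by
    intro m
    induction m with
    | zero => exact fun i hi => (pdim_le_dim hfin _).trans (by omega)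
    | succ m ih =>
      intro i hi
      have hlt : (i : ℕ) < p.length := by omega
      have hs : p i < p ⟨i + 1, by omega⟩ := p.strictMono (Fin.mk_lt_mk.2 (Nat.lt_succ_self _) :
        (i : Fin (p.length + 1)) < ⟨i + 1, by omega⟩)
      have hsp : g ⟨i + 1, by omega⟩ ⤳ g i :=
        specializes_iff_mem_closure.2 (by rw [hg]; exact hs.le ((hg i).subset (subset_closure rfl)))
      have hne : g i ≠ g ⟨i + 1, by omega⟩ := fun he => hs.ne
        (SetLike.coe_injective (by rw [← hg, ← hg, he]))
      have := pdim_lt_of_specializes hfin hsp hne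
      have := ih ⟨i + 1, by omega⟩ (show p.length - (i.val + 1) = m by omega)
      simp only at this
      omega
  exact ⟨g ⟨k, by omega⟩, le_antisymm (hle _ ⟨k, by omega⟩ rfl) (hge ⟨k, by omega⟩)⟩

theorem exists_codim (hfin : topologicalKrullDim X < ⊤) [Nonempty X] {c : ℕ}
    (hc : c ≤ WeilCoh.dim X) : ∃ x : X, WeilCoh.codim X x = c := by
  obtain ⟨x, hx⟩ := pdim_eq_zero_or_series hfin (k := WeilCoh.dim X - c) (by omega)
  exact ⟨x, by unfold WeilCoh.codim; omega⟩

theorem finite_minimal_codim (hfin : topologicalKrullDim X < ⊤) [NoetherianSpace X] {K : Set X}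
    (hK : IsClosed K) (c : ℕ) (hc : ∀ y ∈ K, c ≤ WeilCoh.codim X y) :
    {y : X | y ∈ K ∧ WeilCoh.codim X y = c}.Finite := by
  obtain ⟨S, hS, hScl, hSirr, hKS⟩ := NoetherianSpace.exists_finite_set_isClosed_irreducible hK
  refine Set.Finite.subset (hS.dependent_image fun t ht => (hSirr t ht).genericPoint) ?_
  rintro y ⟨hy, hyc⟩
  obtain ⟨t, ht, hyt⟩ : ∃ t ∈ S, y ∈ t := by rw [hKS] at hy; exact mem_sUnion.1 hy
  refine ⟨t, ht, ?_⟩
  have hg := (hSirr t ht).isGenericPoint_genericPoint_closure
  have hsp : (hSirr t ht).genericPoint ⤳ y := hg.specializes (subset_closure hyt)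
  have hmem : (hSirr t ht).genericPoint ∈ K := by
    rw [hKS]
    exact mem_sUnion.2 ⟨t, ht, (hScl t ht).closure_eq.subset hg.mem⟩
  exact (specializes_eq_of_codim_le hfin hsp (by rw [hyc]; exact hc _ hmem)).symm

end Scheme

end Groth.Agent.BMLib
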