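import Groth.Agent.Lib.BMCoh.Sequence

/-!
Bijectivity criteria for restriction between the groups of the loci of bounded codimension.
-/

set_option autoImplicit false

universe u

open AlgebraicGeometry CategoryTheory CategoryTheory.Limits Opposite TopologicalSpace Set

namespace Groth.Agent.BMLib

open BMCoh

variable {V : ObjectProperty Scheme.{u}} [IsConstructible V] {R : Type u} [CommRing R] {A : Coefs R}

attribute [local instance] isFiltered_fj isFiltered_pt

theorem containsFj_top (X : Obj V) (j : ℕ) : ContainsFj X j ⊤ := fun _ _ => trivial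

section Pre

variable {T : PreTheory V R A} {X : Obj V} (M : A.Cat)

theorem eq_zero_of_isZero {N : ModuleCat.{u} R} (h : IsZero N) (a : N) : a = 0 :=
  haveI := ModuleCat.subsingleton_of_isZero h
  Subsingleton.elim _ _

theorem injective_fjRes {j : ℕ} (i n : ℤ)
    (h0 : ∀ x : X.scheme, WeilCoh.codim X.scheme x = j + 1 →
      IsZero (T.ptGp X x M (i - 2 * ((j : ℤ) + 1)) (n - ((j : ℤ) + 1)))) :
    Function.Injective ((T.fjRes X (Nat.le_succ j) i n).app M).hom := by
  refine (injective_iff_map_eq_zero _).2 fun a ha => ?_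
  rcases exists_push_of_fjRes_eq_zero M (i - 2 * ((j : ℤ) + 1)) (n - ((j : ℤ) + 1)) i n
    (by push_cast; ring) (by push_cast; ring) a ha with rfl | ⟨S, hS, Y, hY, hg, z, rfl⟩
  · rfl
  · obtain ⟨Y', hle, hY', hz⟩ := exists_shrink_eq_zero T M hg hY hS _ _ z
      (fun s => eq_zero_of_isZero (h0 _ s.1.2) _)
    rw [← cls_pull T M hY hY' hle ((hg.of_le hle hY').dimY.trans hg.dimY.symm),
      pull_push T M ((hg.of_le hle hY').isPc hS) (hg.isPc hS) hle, hz, map_zero, map_zero]

theorem surjective_fjRes {j : ℕ} (i n : ℤ)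
    (h1 : ∀ x : X.scheme, WeilCoh.codim X.scheme x = j + 1 →
      IsZero (T.ptGp X x M (i + 1 - 2 * ((j : ℤ) + 1)) (n - ((j : ℤ) + 1)))) :
    Function.Surjective ((T.fjRes X (Nat.le_succ j) i n).app M).hom := by
  intro a
  obtain ⟨S, Y, U, hY, hg, hU, hUj, b, rfl⟩ := exists_cls_diff M i n a
  exact exists_fjRes_eq M hY hg hU hUj i n (i + 1 - 2 * ((j : ℤ) + 1)) (n - ((j : ℤ) + 1))
    (by push_cast; ring) (by push_cast; ring) b fun hS s => eq_zero_of_isZero (h1 _ s.1.2) _

theorem fjRes_fjRes {k j m : ℕ} (h : k ≤ j) (h' : j ≤ m) (i n : ℤ) (a : T.fjGp X m M i n) :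
    ((T.fjRes X h i n).app M).hom (((T.fjRes X h' i n).app M).hom a) =
      ((T.fjRes X (h.trans h') i n).app M).hom a := by
  obtain ⟨Y, hY, b, rfl⟩ := exists_cls T M m i n a
  rw [fjRes_cls, fjRes_cls, fjRes_cls]

theorem fjRes_self {j : ℕ} (i n : ℤ) (a : T.fjGp X j M i n) :
    ((T.fjRes X (le_refl j) i n).app M).hom a = a := by
  obtain ⟨Y, hY, b, rfl⟩ := exists_cls T M j i n a
  rw [fjRes_cls]

theorem toFj_eq (j : ℕ) (i n : ℤ) (a : T.gp X M i n) :
    ((T.toFj X j i n).app M).hom a =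
      (cls T M (containsFj_top X j) i n).hom ((T.pull X.resTop M i n).hom a) := rfl

theorem fjRes_toFj {k j : ℕ} (h : k ≤ j) (i n : ℤ) (a : T.gp X M i n) :
    ((T.fjRes X h i n).app M).hom (((T.toFj X j i n).app M).hom a) = ((T.toFj X k i n).app M).hom a := by
  rw [toFj_eq, toFj_eq, fjRes_cls]

theorem eq_top_of_containsFj {j : ℕ} (hj : WeilCoh.dim X.scheme ≤ j) {U : X.scheme.Opens}
    (hU : ContainsFj X j U) : U = ⊤ :=
  top_le_iff.1 fun y _ => hU y (show WeilCoh.dim X.scheme - WeilCoh.pdim X.scheme y ≤ j by omega)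

theorem bijective_pull_resTop (i n : ℤ) : Function.Bijective (T.pull X.resTop M i n).hom := by
  haveI : IsIso X.resTop.hom := inferInstanceAs (IsIso X.scheme.topIso.hom)
  let h' : X ⟶ X.res ⊤ := ⟨inv X.resTop.hom, inferInstance, X.resTop.dim_eq.symm⟩
  refine Function.bijective_iff_has_inverse.2 ⟨(T.pull h' M i n).hom, fun a => ?_, fun a => ?_⟩
  · rw [pull_comp, show h' ≫ X.resTop = 𝟙 X from Hom.ext (by simp [h']), pull_id]
  · rw [pull_comp, show X.resTop ≫ h' = 𝟙 _ from Hom.ext (by simp [h']), pull_id]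

theorem bijective_toFj_of_dim_le {j : ℕ} (hj : WeilCoh.dim X.scheme ≤ j) (i n : ℤ) :
    Function.Bijective ((T.toFj X j i n).app M).hom := by
  suffices h : Function.Bijective (cls T M (containsFj_top X j) i n).hom from
    h.comp (bijective_pull_resTop M i n)
  constructor
  · refine (injective_iff_map_eq_zero _).2 fun b hb => ?_
    obtain ⟨Y', h, hY', hb'⟩ := exists_pull_eq_zero T M _ i n b hb
    obtain rfl := eq_top_of_containsFj hj hY'
    rwa [resLE_self, pull_id] at hb'
  · intro a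
    obtain ⟨Y, hY, b, rfl⟩ := exists_cls T M j i n a
    obtain rfl := eq_top_of_containsFj hj hY
    exact ⟨b, rfl⟩

theorem bijective_fjRes_of_le {j : ℕ} (i n : ℤ)
    (h : ∀ k, j ≤ k → Function.Bijective ((T.fjRes X (Nat.le_succ k) i n).app M).hom) :
    ∀ {m : ℕ} (hm : j ≤ m), Function.Bijective ((T.fjRes X hm i n).app M).hom := by
  intro m hm
  induction m, hm using Nat.le_induction with
  | base =>
    exact ⟨fun a b hab => by rwa [fjRes_self, fjRes_self] at hab, fun a => ⟨a, fjRes_self M i n a⟩⟩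
  | succ m hm ih =>
    have : ⇑((T.fjRes X (hm.trans (Nat.le_succ m)) i n).app M).hom =
        ((T.fjRes X hm i n).app M).hom ∘ ((T.fjRes X (Nat.le_succ m) i n).app M).hom :=
      funext fun a => (fjRes_fjRes M hm (Nat.le_succ m) i n a).symm
    rw [this]
    exact ih.comp (h m hm)

theorem bijective_gp_prod {W W₁ W₂ : Obj V} (iX : W₁ ⟶ W) (iY : W₂ ⟶ W)
    (h : range iX.hom = (range iY.hom)ᶜ) (i n : ℤ) :
    Function.Bijective (fun a : T.gp W M i n => ((T.pull iX M i n).hom a, (T.pull iY M i n).hom a)) := by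
  let Ws : ULift.{u} Bool → Obj V := fun b => cond b.down W₁ W₂
  let hs : ∀ b, Ws b ⟶ W := fun b => match b with
    | ⟨true⟩ => iX
    | ⟨false⟩ => iY
  haveI : ∀ b, IsClosedImmersion (hs b).hom := fun b => match b with
    | ⟨true⟩ => IsClosedImmersion.of_isPreimmersion iX.hom
        (by rw [h]; exact iY.hom.isOpenEmbedding.isOpen_range.isClosed_compl)
    | ⟨false⟩ => IsClosedImmersion.of_isPreimmersion iY.hom
        (by rw [← compl_compl (range iY.hom), ← h]; exact iX.hom.isOpenEmbedding.isOpen_range.isClosed_compl)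
  have hdis : _root_.Pairwise fun s t => Disjoint (range (hs s).hom) (range (hs t).hom) := by
    rintro ⟨_ | _⟩ ⟨_ | _⟩ hne
    · exact absurd rfl hne
    · change Disjoint (range iY.hom) (range iX.hom); rw [h]; exact disjoint_compl_right
    · change Disjoint (range iX.hom) (range iY.hom); rw [h]; exact disjoint_compl_left
    · exact absurd rfl hne
  have hcov : ⋃ s, range (hs s).hom = univ := by
    refine eq_univ_of_forall fun y => mem_iUnion.2 ?_
    by_cases hy : y ∈ range iY.hom
    · exact ⟨⟨false⟩, hy⟩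
    · exact ⟨⟨true⟩, h.symm.subset hy⟩
  constructor
  · intro a b hab
    refine sub_eq_zero.1 (eq_zero_of_split T M Ws hs hdis hcov i n _ fun s => ?_)
    rw [map_sub, sub_eq_zero]
    obtain ⟨_ | _⟩ := s
    · exact congrArg Prod.snd hab
    · exact congrArg Prod.fst hab
  · rintro ⟨b₁, b₂⟩
    obtain ⟨a, ha⟩ := exists_glue T M Ws hs hdis i n fun b => match b with
      | ⟨true⟩ => b₁
      | ⟨false⟩ => b₂
    exact ⟨a, Prod.ext (ha ⟨true⟩) (ha ⟨false⟩)⟩

end Pre

variable (T : TheoryOn V R A) (X : Obj V) (M : A.Cat)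

theorem bijective_toFj {j : ℕ} (i n : ℤ) (hj : i ≤ 2 * (j : ℤ)) :
    Function.Bijective ((T.toFj X j i n).app M).hom := by
  have hb : ∀ k, j ≤ k → Function.Bijective ((T.fjRes X (Nat.le_succ k) i n).app M).hom := fun k hk =>
    ⟨injective_fjRes M i n fun x _ => T.pt_vanish X x M _ _ (by omega),
      surjective_fjRes M i n fun x _ => T.pt_vanish X x M _ _ (by omega)⟩
  have h₁ := bijective_fjRes_of_le M i n hb (le_max_left j (WeilCoh.dim X.scheme))
  have h₂ := bijective_toFj_of_dim_le (T := T.toPreTheory) (X := X) M (le_max_right j (WeilCoh.dim X.scheme)) i n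
  have : ⇑((T.toFj X j i n).app M).hom =
      ((T.fjRes X (le_max_left j (WeilCoh.dim X.scheme)) i n).app M).hom ∘
        ((T.toFj X (max j (WeilCoh.dim X.scheme)) i n).app M).hom :=
    funext fun a => (fjRes_toFj M _ i n a).symm
  rw [this]
  exact h₁.comp h₂

theorem bijective_pull_big {U : Obj V} (f : U ⟶ X)
    (hbig : ∀ x : X.scheme, x ∉ range f.hom → 2 ≤ WeilCoh.codim X.scheme x) (n : ℤ) :
    Function.Bijective (T.pull f M 2 n).hom := by
  let U₀ : X.scheme.Opens := f.hom.opensRange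
  have hU₀ : ContainsFj X 1 U₀ := fun y hy => by
    by_contra hy'
    have := hbig y hy'
    omega
  have hd := dim_open_of_containsFj X hU₀
  let h := liftOpen f U₀ (subset_refl _) hd
  have hfac : h ≫ X.resι U₀ hd = f := liftOpen_comp f U₀ (subset_refl _) hd
  haveI : IsIso h.hom := by
    have := h.isOpenImmersion
    refine (isIso_iff_isOpenImmersion_and_epi_base _).2 ⟨inferInstance, (TopCat.epi_iff_surjective _).2 fun y => ?_⟩
    obtain ⟨w, hw⟩ := (U₀.range_ι.subset ⟨y, rfl⟩ : U₀.ι y ∈ (U₀ : Set X.scheme))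
    refine ⟨w, U₀.ι.isEmbedding.injective ?_⟩
    rw [← Scheme.Hom.comp_apply]
    change ((h ≫ X.resι U₀ hd).hom) w = _
    rw [hfac, hw]
  have hres : Function.Bijective (T.pull (X.resι U₀ hd) M 2 n).hom := by
    have hcls : ∀ a : T.gp X M 2 n,
        (cls T.toPreTheory M hU₀ 2 n).hom ((T.pull (X.resι U₀ hd) M 2 n).hom a) = ((T.toFj X 1 2 n).app M).hom a := by
      intro a
      have hle₀ : U₀ ≤ (⊤ : X.scheme.Opens) := fun _ _ => trivial
      rw [toFj_eq, ← cls_pull T.toPreTheory M (containsFj_top X 1) hU₀ hle₀ (hd.trans (dim_top X.scheme).symm),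
        pull_comp]
      rw [show X.resLE hle₀ (hd.trans (dim_top X.scheme).symm) ≫ X.resTop = X.resι U₀ hd from
        Hom.ext (X.scheme.homOfLE_ι hle₀)]
    constructor
    · intro a b hab
      exact (bijective_toFj T X M 2 n (j := 1) (by norm_num)).1 (by rw [← hcls, ← hcls, hab])
    · intro b
      obtain ⟨a, ha⟩ := (bijective_toFj T X M 2 n (j := 1) (by norm_num)).2 ((cls T.toPreTheory M hU₀ 2 n).hom b)
      refine ⟨a, ?_⟩
      rw [← hcls] at ha
      have hz : (cls T.toPreTheory M hU₀ 2 n).hom ((T.pull (X.resι U₀ hd) M 2 n).hom a - b) = 0 := by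
        rw [map_sub, ha, sub_self]
      obtain ⟨U', hle, hU', hd'⟩ := exists_pull_eq_zero T.toPreTheory M hU₀ 2 n _ hz
      let W := X.res U₀
      let U'' : W.scheme.Opens := U₀.ι ⁻¹ᵁ U'
      have hU'' : ContainsFj W 1 U'' := fun y hy => hU' _ (by
        change WeilCoh.dim X.scheme - WeilCoh.pdim X.scheme (U₀.ι y) ≤ 1
        change WeilCoh.dim (U₀ : Scheme.{u}) - WeilCoh.pdim (X.res U₀).scheme y ≤ 1 at hy
        rw [pdim_res, hd] at hy
        exact hy)
      refine sub_eq_zero.1 ((injective_iff_map_eq_zero _).1 (bijective_toFj T W M 2 n (j := 1) (by norm_num)).1 _ ?_)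
      have hdW := dim_open_of_containsFj W hU''
      let g : W.res U'' ⟶ X.res U' := ⟨IsOpenImmersion.lift U'.ι (U''.ι ≫ U₀.ι) (by
        rw [Scheme.Opens.range_ι, Scheme.Hom.comp_base, TopCat.coe_comp, range_comp, Scheme.Opens.range_ι]
        rintro _ ⟨z, hz, rfl⟩
        exact hz), by
          haveI : IsOpenImmersion (IsOpenImmersion.lift U'.ι (U''.ι ≫ U₀.ι) (by
            rw [Scheme.Opens.range_ι, Scheme.Hom.comp_base, TopCat.coe_comp, range_comp, Scheme.Opens.range_ι]
            rintro _ ⟨z, hz, rfl⟩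
            exact hz) ≫ U'.ι) := by rw [IsOpenImmersion.lift_fac]; infer_instance
          exact IsOpenImmersion.of_comp _ U'.ι, hdW.trans (hd.trans (dim_open_of_containsFj X hU').symm)⟩
      have hg : g ≫ X.resLE hle ((dim_open_of_containsFj X hU').trans hd.symm) = W.resι U'' hdW :=
        Hom.ext ((cancel_mono U₀.ι).1 (by
          change (g.hom ≫ X.scheme.homOfLE hle) ≫ U₀.ι = U''.ι ≫ U₀.ι
          rw [Category.assoc, Scheme.homOfLE_ι]
          exact IsOpenImmersion.lift_fac _ _ _))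
      have hle'' : U'' ≤ (⊤ : W.scheme.Opens) := fun _ _ => trivial
      rw [toFj_eq, ← cls_pull T.toPreTheory M (containsFj_top W 1) hU'' hle'' (hdW.trans (dim_top W.scheme).symm),
        pull_comp, show W.resLE hle'' (hdW.trans (dim_top W.scheme).symm) ≫ W.resTop = W.resι U'' hdW
          from Hom.ext (W.scheme.homOfLE_ι hle''), ← hg, ← pull_comp, hd', map_zero, map_zero]
  have hh : Function.Bijective (T.pull h M 2 n).hom := by
    let h' : X.res U₀ ⟶ U := ⟨inv h.hom, inferInstance, h.dim_eq.symm⟩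
    refine Function.bijective_iff_has_inverse.2 ⟨(T.pull h' M 2 n).hom, fun a => ?_, fun a => ?_⟩
    · rw [pull_comp, show h' ≫ h = 𝟙 _ from Hom.ext (by simp [h']), pull_id]
    · rw [pull_comp, show h ≫ h' = 𝟙 _ from Hom.ext (by simp [h']), pull_id]
  have : ⇑(T.pull f M 2 n).hom = (T.pull h M 2 n).hom ∘ (T.pull (X.resι U₀ hd) M 2 n).hom := by
    funext a
    rw [Function.comp_apply, pull_comp, hfac]
  rw [this]
  exact hh.comp hres

end Groth.Agent.BMLib
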